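import Mathlib.AlgebraicGeometry.Morphisms.Separated
import Mathlib.AlgebraicGeometry.Morphisms.ClosedImmersion
import Mathlib.AlgebraicGeometry.Morphisms.UnderlyingMap
import Mathlib.AlgebraicGeometry.Morphisms.Immersion
import Mathlib.AlgebraicGeometry.Morphisms.IsIso

/-!
# Dense sections of separated morphisms

`isIso_restrict`: if `f : U ⟶ W` is dominant, `W` reduced, `g : W ⟶ Z` separated and `f ≫ g` an open immersion,
then `g` is an isomorphism over the image of `f ≫ g`.
-/

set_option autoImplicit false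
universe u
open CategoryTheory CategoryTheory.Limits AlgebraicGeometry TopologicalSpace

namespace Groth.Agent.Vancyc.H175.BirIso

theorem isDominant_of_comp_ι {A W : Scheme.{u}} {V : W.Opens} (f : A ⟶ V.toScheme)
    (h : IsDominant (f ≫ V.ι)) : IsDominant f := by
  constructor
  have h1 : DenseRange (f ≫ V.ι) := h.1
  intro x
  rw [mem_closure_iff]
  intro O hO hx
  have h2 : IsOpen (V.ι '' O) := V.ι.isOpenEmbedding.isOpenMap _ hO
  obtain ⟨y, o, ho, ho'⟩ := h1.exists_mem_open h2 ⟨_, ⟨x, hx, rfl⟩⟩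
  refine ⟨o, ho, y, ?_⟩
  exact V.ι.isOpenEmbedding.injective ho'.symm

/-- If `f : A ⟶ W` is dominant, `W` reduced, `g` separated, `f ≫ g` an open immersion with image `V`,
then `g` is an isomorphism over `V`. -/
theorem isIso_restrict {A W Z : Scheme.{u}} (f : A ⟶ W) (g : W ⟶ Z) [IsDominant f] [IsReduced W]
    [IsSeparated g] [IsOpenImmersion (f ≫ g)] {V : Z.Opens} (hV : (f ≫ g).opensRange = V) :
    IsIso (g ∣_ V) := by
  subst hV
  set V := (f ≫ g).opensRange with hVdef
  have hr : Set.range f ⊆ Set.range (g ⁻¹ᵁ V).ι := by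
    rw [Scheme.Opens.range_ι]
    rintro _ ⟨a, rfl⟩
    exact ⟨a, rfl⟩
  let f' : A ⟶ (g ⁻¹ᵁ V).toScheme := IsOpenImmersion.lift (g ⁻¹ᵁ V).ι f hr
  have hf' : f' ≫ (g ⁻¹ᵁ V).ι = f := IsOpenImmersion.lift_fac _ _ _
  have hdom : IsDominant f' := isDominant_of_comp_ι f' (by rw [hf']; infer_instance)
  have hcomp : (f' ≫ (g ∣_ V)) ≫ V.ι = f ≫ g := by
    rw [Category.assoc, morphismRestrict_ι, reassoc_of% hf']
  have hiso : IsIso (f' ≫ (g ∣_ V)) := by
    have h1 : IsOpenImmersion ((f' ≫ (g ∣_ V)) ≫ V.ι) := by rw [hcomp]; infer_instance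
    have h2 : IsOpenImmersion (f' ≫ (g ∣_ V)) := IsOpenImmersion.of_comp _ V.ι
    have h3 : Surjective (f' ≫ (g ∣_ V)) := by
      constructor
      rintro ⟨v, a, rfl⟩
      exact ⟨a, V.ι.isOpenEmbedding.injective congr($hcomp a)⟩
    exact (isIso_iff_isOpenImmersion_and_surjective _).mpr ⟨h2, h3⟩
  have h4 : IsClosedImmersion f' := IsClosedImmersion.of_comp f' (g ∣_ V)
  have h5 : Surjective f' := by
    constructor
    intro x
    have h6 : closure (Set.range f') = Set.univ := hdom.1.closure_range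
    rw [f'.isClosedEmbedding.isClosed_range.closure_eq] at h6
    have : x ∈ Set.range f' := by rw [h6]; trivial
    exact this
  have h6 : IsIso f' := isIso_of_isClosedImmersion_of_surjective f'
  exact IsIso.of_isIso_comp_left f' _

end Groth.Agent.Vancyc.H175.BirIso
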