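import Groth.Agent.S0025
import Groth.Agent.CohqB.ProjBC
import Groth.Agent.Ega3B.ProjProper
import Groth.Agent.Vancyc.H175.BirIso
import Groth.Agent.CycB.ImageInt

/-!
# Projective models of integral proper schemes over a field (Chow's lemma)
-/

set_option autoImplicit false
universe u
open CategoryTheory CategoryTheory.Limits AlgebraicGeometry TopologicalSpace

namespace Groth.Agent.Vancyc.H175.Chow

/-- **(Chow)** An integral proper scheme over a field has an integral projective model: `g : Z' ⟶ Z` proper and an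
isomorphism over a nonempty open, `Z'` integral and closed in some `P^n_k`. -/
theorem exists_projective_model (k : Type u) [Field k] {Z : Scheme.{u}} [IsIntegral Z]
    (f : Z ⟶ Spec (CommRingCat.of k)) [IsProper f] :
    ∃ (n : ℕ) (Z' : Scheme.{u}) (g : Z' ⟶ Z) (i : Z' ⟶ CohB1.ProjSpace n k) (U : Z.Opens),
      IsIntegral Z' ∧ IsClosedImmersion i ∧ i ≫ CohB1.ProjSpace.toSpec n k = g ≫ f ∧ IsProper g ∧
        (U : Set Z).Nonempty ∧ IsIso (g ∣_ U) := by
  obtain ⟨n, X', π, j, hj, hjf, hπ, -, U, hUd, hU⟩ := S0025.result f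
  have hUne : (U : Set Z).Nonempty := hUd.nonempty
  have hne : Nonempty U := hUne.to_subtype
  have hZ : IsLocallyNoetherian Z := LocallyOfFiniteType.isLocallyNoetherian f
  have hZc : CompactSpace Z := QuasiCompact.compactSpace_of_compactSpace f
  have hZn : IsNoetherian Z := {}
  have hUc : CompactSpace U.toScheme :=
    isCompact_iff_compactSpace.mp (NoetherianSpace.isCompact (U : Set Z))
  have hUn : IsNoetherian U.toScheme := {}
  let s : U.toScheme ⟶ X' := inv (π ∣_ U) ≫ (π ⁻¹ᵁ U).ι
  have hs : s ≫ π = U.ι := by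
    simp only [s, Category.assoc, ← morphismRestrict_ι, IsIso.inv_hom_id_assoc]
  have hW : IsIntegral s.image := CycB.ImageInt.isIntegral_image s
  have hcomp : s.toImage ≫ s.imageι ≫ π = U.ι := by
    rw [← Category.assoc, Scheme.Hom.toImage_imageι, hs]
  have ho : IsOpenImmersion (s.toImage ≫ s.imageι ≫ π) := by rw [hcomp]; infer_instance
  -- `j` is a closed immersion
  have hjp : IsProper j := by
    have h1 : IsProper (j ≫ CohB1.ProjSpaceOver.toBase n (Spec (CommRingCat.of k))) := by
      rw [hjf]; infer_instance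
    have h2 : IsProper (CohB1.ProjSpaceOver.toBase n (Spec (CommRingCat.of k))) := by
      rw [← CohqB.ProjBC.projSpaceOverIso_hom_toSpec]
      have := Groth.Agent.Ega3B.ProjProper.isProper_toSpec n k
      infer_instance
    exact IsProper.of_comp j (CohB1.ProjSpaceOver.toBase n (Spec (CommRingCat.of k)))
  have hjc : IsClosedImmersion j := IsClosedImmersion.of_isPreimmersion j j.isClosedMap.isClosed_range
  refine ⟨n, s.image, s.imageι ≫ π, s.imageι ≫ j ≫ (CohqB.ProjBC.projSpaceOverIso n k).hom, U, hW,
    inferInstance, ?_, inferInstance, hUne, ?_⟩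
  · rw [Category.assoc, Category.assoc, CohqB.ProjBC.projSpaceOverIso_hom_toSpec, hjf, Category.assoc]
  · refine BirIso.isIso_restrict s.toImage (s.imageι ≫ π) ?_
    apply TopologicalSpace.Opens.ext
    rw [Scheme.Hom.coe_opensRange, hcomp, Scheme.Opens.range_ι]

end Groth.Agent.Vancyc.H175.Chow
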