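import Groth.Agent.Vancyc.H326.KosEuler
import Groth.Agent.Ega4A.RegCM
import Groth.Agent.Fga.DimCut
import Groth.Agent.VarietyA.RegPoint

/-!
# (Kos): the number of simple zeros

`card_eq_c`: on an integral proper scheme of dimension `m` over an algebraically closed field, a morphism `t : G ⟶ O_X`
from a locally free module of rank `m` with simple zeros at the closed points of `F` and no other zero has
`F.card = c k m G`.
-/

set_option autoImplicit false
universe u
open CategoryTheory CategoryTheory.Limits AlgebraicGeometry TopologicalSpace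

namespace Groth.Agent.Vancyc.H175.KosOf

open Groth.Agent.Vancyc.H326.ChiLam Groth.Agent.Vancyc.H326.LocExact

/-- The quotient of the local ring at a closed point by its maximal ideal has dimension one. -/
theorem finrank_residue (k : Type u) [Field k] [IsAlgClosed k] (X : Scheme.{u}) [X.Over (Spec (CommRingCat.of k))]
    [LocallyOfFiniteType (X ↘ Spec (CommRingCat.of k))] {x : X} (hx : IsClosed ({x} : Set X)) :
    (letI := VanCyc.stalkAlgebra (X ↘ Spec (CommRingCat.of k)) x
     Module.finrank k (X.presheaf.stalk x ⧸ IsLocalRing.maximalIdeal (X.presheaf.stalk x))) = 1 := by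
  letI := VanCyc.stalkAlgebra (X ↘ Spec (CommRingCat.of k)) x
  refine finrank_eq_one_iff'.2 ⟨1, one_ne_zero, fun w => ?_⟩
  obtain ⟨a, rfl⟩ := Ideal.Quotient.mk_surjective w
  obtain ⟨c, hc⟩ := Groth.Agent.VarietyA.RegPoint.exists_sub_mem_maximalIdeal k X hx a
  refine ⟨c, ?_⟩
  have h1 : Ideal.Quotient.mk (IsLocalRing.maximalIdeal (X.presheaf.stalk x)) a =
      Ideal.Quotient.mk (IsLocalRing.maximalIdeal (X.presheaf.stalk x)) (Curv2.stalkMap k X x c) :=
    Ideal.Quotient.eq.2 hc
  rw [h1, Algebra.smul_def, mul_one]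
  rfl

theorem card_eq_c (k : Type u) [Field k] [IsAlgClosed k] (X : Scheme.{u}) [X.Over (Spec (CommRingCat.of k))]
    [IsProper (X ↘ Spec (CommRingCat.of k))] [IrreducibleSpace X] (m : ℕ) (G : X.Modules)
    (hG : FlatMod.IsFinLocFreeOfRank m G) (hm : topologicalKrullDim X = m) (t : G ⟶ Coh.structureModule X)
    (F : Finset X) (h1 : ∀ z ∈ F, IsClosed ({z} : Set X) ∧ IsSimpleZero t z) (h2 : ∀ z ∉ F, zeroIdeal t z = ⊤) :
    (F.card : ℤ) = c k m G := by
  rw [Groth.Agent.Vancyc.H326.KosEuler.kos_euler k hG t F (fun x hx => (h1 x hx).1) h2 fun x hx => ?_]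
  · rw [Finset.sum_congr rfl (g := fun _ => (1 : ℤ)) fun x hx => ?_]
    · simp
    · have h3 := (h1 x hx).2.2
      rw [h3, finrank_residue k X (h1 x hx).1, Nat.cast_one]
  · obtain ⟨hreg, hz⟩ := (h1 x hx).2
    refine Or.inr ⟨Groth.Agent.Ega4A.RegCM.isCohenMacaulayLocalRing_of_isRegularLocalRing _, ?_, ?_⟩
    · rw [Groth.Agent.Fga.DimCut.ringKrullDim_stalk_eq k X x (h1 x hx).1, hm]
    · rw [hz]
      exact (ringKrullDim_eq_zero_of_isField
        ((Ideal.Quotient.maximal_ideal_iff_isField_quotient _).1 inferInstance)).le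

end Groth.Agent.Vancyc.H175.KosOf
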