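import Mathlib.Algebra.Polynomial.AlgebraMap
import Mathlib.Data.Rat.Lemmas
import Mathlib.Tactic.Ring
import Mathlib.Tactic.FieldSimp

/-!
# Rational polynomials modulo `n`

`exists_dvd`: for `P ∈ ℚ[T]` and `n > 0` there is `D > 0` such that `P(M) - P(0) ∈ n ℤ` for all `M` divisible by `D`.
-/

set_option autoImplicit false

namespace Groth.Agent.Vancyc.H175.PolyArith

theorem exists_dvd (P : Polynomial ℚ) (n : ℕ) (hn : 0 < n) :
    ∃ D : ℕ, 0 < D ∧ ∀ M : ℕ, D ∣ M → ∃ t : ℤ, P.eval (M : ℚ) - P.eval 0 = n * t := by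
  induction P using Polynomial.induction_on' with
  | add p q hp hq =>
    obtain ⟨D, hD, h⟩ := hp
    obtain ⟨D', hD', h'⟩ := hq
    refine ⟨D * D', Nat.mul_pos hD hD', fun M hM => ?_⟩
    obtain ⟨t, ht⟩ := h M (dvd_of_mul_right_dvd hM)
    obtain ⟨t', ht'⟩ := h' M (dvd_of_mul_left_dvd hM)
    refine ⟨t + t', ?_⟩
    rw [Polynomial.eval_add, Polynomial.eval_add]
    push_cast
    rw [mul_add, ← ht, ← ht']
    ring
  | monomial j a =>
    rcases Nat.eq_zero_or_pos j with rfl | hj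
    · exact ⟨1, one_pos, fun M _ => ⟨0, by simp⟩⟩
    · obtain ⟨j, rfl⟩ : ∃ i, j = i + 1 := ⟨j - 1, by omega⟩
      refine ⟨n * a.den, Nat.mul_pos hn a.den_pos, ?_⟩
      rintro _ ⟨s, rfl⟩
      refine ⟨a.num * s * (n * a.den * s : ℕ) ^ j, ?_⟩
      have ha : a * a.den = a.num := Rat.mul_den_eq_num a
      rw [Polynomial.eval_monomial, Polynomial.eval_monomial]
      push_cast
      rw [← ha, zero_pow (Nat.succ_ne_zero j), mul_zero, sub_zero]
      ring

end Groth.Agent.Vancyc.H175.PolyArith
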