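import Groth.Agent.Vancyc.H175.AltLine
import Groth.Agent.Vancyc.H175.PolyArith
import Groth.Agent.Vancyc.H326.ChiLam
import Groth.Agent.Krr.H483.ExtTwist
import Groth.Agent.S1524
import Groth.Agent.S1528
import Mathlib.Algebra.Polynomial.AlgebraMap
import Mathlib.Algebra.MvPolynomial.Eval

/-!
# Polynomiality of `Σ (-1)^i χ(Λ^i (G ⊗ A^M))` in `M`
-/

set_option autoImplicit false
universe u
open CategoryTheory CategoryTheory.Limits AlgebraicGeometry

namespace Groth.Agent.Vancyc.H175.Poly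

open Groth.Agent.Fga.ChiBasic AltLine Groth.Agent.Sga67.KvbRing Groth.Agent.Sga67.LocBasis
open Groth.Agent.Sga67.TensorOps Groth.Agent.Krr.H495.Model
open Groth.Agent.Vancyc.H326.ChiLam (extPow isExtPow_extPow isFinLocFree_extPow isFinLocFree_of_rank)

section Pow

variable {X : Scheme.{u}}

theorem isFinLocFree_tensorPow {A : X.Modules} (hA : FlatMod.IsFinLocFree A) (i : ℕ) :
    FlatMod.IsFinLocFree (CohB1.tensorPow A i) := by
  induction i with
  | zero => exact isFinLocFree_structureModule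
  | succ i ih => exact isFinLocFree_tensorMod ih hA

theorem toKR_tensorPow {A : X.Modules} (hA : FlatMod.IsFinLocFree A) (i : ℕ) :
    toKR X (c (CohB1.tensorPow A i)) = toKR X (c A) ^ i := by
  induction i with
  | zero => rw [pow_zero]; rfl
  | succ i ih =>
    rw [pow_succ, ← ih, toKR_c_mul X (isFinLocFree_tensorPow hA i) hA]
    rfl

theorem isInvertible_tensorPow {A : X.Modules} (hA : PicF.IsInvertible A) (i : ℕ) :
    PicF.IsInvertible (CohB1.tensorPow A i) :=
  Groth.Agent.Fdesc.LocGen.isInvertible_tensorPow hA i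

/-- `χ(Λ^i (G ⊗ A^M)) = χ(Λ^i G ⊗ A^{M i})`. -/
theorem chi_extPow_twist {χ : X.Modules → ℤ} (hχ : IsAdd χ) {G A : X.Modules} (hG : FlatMod.IsFinLocFree G)
    (hA : PicF.IsInvertible A) (M i : ℕ) :
    χ (extPow (CohB1.tensorMod G (CohB1.tensorPow A M)) i) =
      χ (CohB1.tensorMod (extPow G i) (CohB1.tensorPow A (M * i))) := by
  have hAf : FlatMod.IsFinLocFree A :=
    isFinLocFree_of_rank (Ega2.QCohLocal.isFinLocFreeOfRank_one_iff.2 hA)
  have hAM : FlatMod.IsFinLocFreeOfRank 1 (CohB1.tensorPow A M) :=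
    Ega2.QCohLocal.isFinLocFreeOfRank_one_iff.2 (isInvertible_tensorPow hA M)
  have hAMf := isFinLocFree_of_rank hAM
  have hGA : FlatMod.IsFinLocFree (CohB1.tensorMod G (CohB1.tensorPow A M)) :=
    isFinLocFree_tensorMod hG hAMf
  obtain ⟨e⟩ := Groth.Agent.Krr.H483.ExtTwist.nonempty_iso hG hAM (isExtPow_extPow hG i)
    (isExtPow_extPow hGA i)
  have hL := isFinLocFree_extPow hG i
  have h1 : FlatMod.IsFinLocFree (CohB1.tensorMod (extPow G i) (CohB1.tensorPow (CohB1.tensorPow A M) i)) :=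
    isFinLocFree_tensorMod hL (isFinLocFree_tensorPow hAMf i)
  have h2 : FlatMod.IsFinLocFree (CohB1.tensorMod (extPow G i) (CohB1.tensorPow A (M * i))) :=
    isFinLocFree_tensorMod hL (isFinLocFree_tensorPow hAf _)
  rw [← chi_iso hχ e (isCoh_of_isFinLocFree h1), ← chiR_c hχ h1, ← chiR_c hχ h2,
    ← toKR_c_mul X hL (isFinLocFree_tensorPow hAMf i), ← toKR_c_mul X hL (isFinLocFree_tensorPow hAf _),
    toKR_tensorPow hAMf, toKR_tensorPow hAf, toKR_tensorPow hAf, pow_mul]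

end Pow

variable (k : Type u) [Field k] {X : Scheme.{u}} [X.Over (Spec (CommRingCat.of k))]
  [IsProper (X ↘ Spec (CommRingCat.of k))]

/-- Snapper for one invertible module. -/
theorem exists_poly {d : ℕ} (hd : topologicalKrullDim X ≤ d) {F A : X.Modules} (hF : Coh.IsCoh F)
    (hA : PicF.IsInvertible A) :
    ∃ P : Polynomial ℚ, ∀ M : ℕ,
      (Curv2.euler k X (CohB1.tensorMod F (CohB1.tensorPow A M)) : ℚ) = P.eval (M : ℚ) := by
  have hs : topologicalKrullDim (CohB1.support F) ≤ d :=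
    (Topology.IsInducing.subtypeVal.topologicalKrullDim_le).trans hd
  obtain ⟨P, -, hP⟩ := S1528.result k X F hF d hs 1 (fun _ => A) (fun _ => hA)
  refine ⟨MvPolynomial.aeval (fun _ => Polynomial.X) P, fun M => ?_⟩
  have h1 := hP fun _ => M
  have h2 : Polynomial.eval (M : ℚ) (MvPolynomial.aeval (fun _ : Fin 1 => Polynomial.X) P) =
      MvPolynomial.eval (fun _ : Fin 1 => (M : ℚ)) P := by
    have h3 := MvPolynomial.comp_aeval_apply (fun _ : Fin 1 => (Polynomial.X : Polynomial ℚ))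
      (Polynomial.aeval (R := ℚ) (M : ℚ)) P
    simp only [Polynomial.aeval_X, Polynomial.coe_aeval_eq_eval] at h3
    exact h3
  rw [h2, ← h1]
  rfl

/-- **(Poly)** `M ↦ c k m (G ⊗ A^M)` is a polynomial. -/
theorem exists_poly_c {d : ℕ} (hd : topologicalKrullDim X ≤ d) {G A : X.Modules} (hG : FlatMod.IsFinLocFree G) (hA : PicF.IsInvertible A) (m : ℕ) :
    ∃ P : Polynomial ℚ, ∀ M : ℕ,
      (Groth.Agent.Vancyc.H326.ChiLam.c k m (CohB1.tensorMod G (CohB1.tensorPow A M)) : ℚ) =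
        P.eval (M : ℚ) := by
  have hχ : IsAdd (Curv2.euler k X) := fun S hS h1 h2 h3 => S1524.result k X S hS h1 h2 h3
  choose P hP using fun i => exists_poly k hd (isCoh_of_isFinLocFree (isFinLocFree_extPow hG i)) hA
  refine ⟨∑ i ∈ Finset.range (m + 1), Polynomial.C ((-1 : ℚ) ^ i) *
    (P i).comp (Polynomial.X * Polynomial.C (i : ℚ)), fun M => ?_⟩
  rw [Groth.Agent.Vancyc.H326.ChiLam.c, Int.cast_sum, Polynomial.eval_finsetSum]
  refine Finset.sum_congr rfl fun i _ => ?_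
  rw [chi_extPow_twist hχ hG hA, Int.cast_mul, hP, Polynomial.eval_mul, Polynomial.eval_C,
    Polynomial.eval_comp, Polynomial.eval_mul, Polynomial.eval_X, Polynomial.eval_C]
  push_cast
  rfl

/-- **(Poly)** `c k m (G ⊗ A^M) ≡ c k m G` modulo `n` for `M` divisible enough. -/
theorem exists_dvd {d : ℕ} (hd : topologicalKrullDim X ≤ d) {G A : X.Modules} (hG : FlatMod.IsFinLocFree G) (hA : PicF.IsInvertible A) (m n : ℕ)
    (hn : 0 < n) : ∃ D : ℕ, 0 < D ∧ ∀ M : ℕ, D ∣ M →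
      (n : ℤ) ∣ Groth.Agent.Vancyc.H326.ChiLam.c k m (CohB1.tensorMod G (CohB1.tensorPow A M)) -
        Groth.Agent.Vancyc.H326.ChiLam.c k m G := by
  obtain ⟨P, hP⟩ := exists_poly_c k hd hG hA m
  obtain ⟨D, hD, h⟩ := PolyArith.exists_dvd P n hn
  refine ⟨D, hD, fun M hM => ?_⟩
  obtain ⟨t, ht⟩ := h M hM
  refine ⟨t, ?_⟩
  have h0 : Groth.Agent.Vancyc.H326.ChiLam.c k m (CohB1.tensorMod G (CohB1.tensorPow A 0)) =
      Groth.Agent.Vancyc.H326.ChiLam.c k m G :=
    Groth.Agent.Vancyc.H326.ChiLam.c_iso k (isFinLocFree_tensorMod hG isFinLocFree_structureModule) hG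
      (tensorComm _ _ ≪≫ tensorUnit G)
  rw [← hP, show (0 : ℚ) = ((0 : ℕ) : ℚ) by simp, ← hP, h0] at ht
  exact_mod_cast ht

end Groth.Agent.Vancyc.H175.Poly
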