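import Groth.Agent.CycB.RelDim2

/-!
# Dimension of closures of points under birational morphisms over a field
-/

set_option autoImplicit false
universe u
open CategoryTheory CategoryTheory.Limits AlgebraicGeometry TopologicalSpace

namespace Groth.Agent.Vancyc.H175.DimBir

open Groth.Agent.CycB Groth.Agent.CycB.RelDim

/-- `g` is injective over `U` if it is an isomorphism over `U`. -/
theorem injOn_of_isIso {W Z : Scheme.{u}} (g : W ⟶ Z) (U : Z.Opens) [IsIso (g ∣_ U)] {w w' : W}
    (hw : g w ∈ U) (h : g w = g w') : w = w' := by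
  have hw' : g w' ∈ U := h ▸ hw
  have h1 : (g ∣_ U) ⟨w, hw⟩ = (g ∣_ U) ⟨w', hw'⟩ := by
    apply U.ι.isOpenEmbedding.injective
    have e : ∀ a : (g ⁻¹ᵁ U).toScheme, U.ι ((g ∣_ U) a) = g ((g ⁻¹ᵁ U).ι a) := fun a =>
      congr($(morphismRestrict_ι g U) a)
    rw [e, e]
    exact h
  have h2 := (Scheme.homeoOfIso (asIso (g ∣_ U))).injective h1
  exact congrArg Subtype.val h2

/-- `g` is surjective over `U` if it is an isomorphism over `U`. -/
theorem exists_of_isIso {W Z : Scheme.{u}} (g : W ⟶ Z) (U : Z.Opens) [IsIso (g ∣_ U)] {z : Z}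
    (hz : z ∈ U) : ∃ w : W, g w = z := by
  obtain ⟨w, hw⟩ := (Scheme.homeoOfIso (asIso (g ∣_ U))).surjective ⟨z, hz⟩
  refine ⟨(g ⁻¹ᵁ U).ι w, ?_⟩
  have e : U.ι ((g ∣_ U) w) = g ((g ⁻¹ᵁ U).ι w) := congr($(morphismRestrict_ι g U) w)
  rw [← e]
  exact congrArg U.ι hw

/-- A morphism which is an isomorphism over a nonempty open preserves generic points. -/
theorem map_genericPoint {W Z : Scheme.{u}} [IrreducibleSpace W] [IrreducibleSpace Z] (g : W ⟶ Z)
    (U : Z.Opens) [IsIso (g ∣_ U)] (hU : genericPoint Z ∈ U) : g (genericPoint W) = genericPoint Z := by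
  obtain ⟨w, hw⟩ := exists_of_isIso g U hU
  have h1 : g (genericPoint W) ⤳ genericPoint Z := by
    rw [← hw]
    exact (genericPoint_specializes w).map g.continuous
  exact (h1.antisymm (genericPoint_specializes _)).eq

/-- The residue field extension is trivial at the points over `U`. -/
theorem rtd_eq_zero_of_isIso {W Z : Scheme.{u}} (g : W ⟶ Z) (U : Z.Opens) [IsIso (g ∣_ U)] {w : W}
    (hw : g w ∈ U) : rtd g w = 0 := by
  have h1 := rtd_comp (g ⁻¹ᵁ U).ι g ⟨w, hw⟩
  have h2 : rtd ((g ⁻¹ᵁ U).ι ≫ g) ⟨w, hw⟩ = 0 := by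
    rw [← morphismRestrict_ι]
    exact rtd_eq_zero_of_isPreimmersion _ _
  rw [h2, rtd_eq_zero_of_isPreimmersion (g ⁻¹ᵁ U).ι, add_zero] at h1
  exact h1.symm

variable (k : Type u) [Field k]

theorem exists_dim (X : Scheme.{u}) (f : X ⟶ Spec (CommRingCat.of k)) [LocallyOfFiniteType f] (x : X) :
    ∃ n : ℕ, rtd f x = n ∧ topologicalKrullDim (closure {x} : Set X) = n := by
  refine exists_dim_closure f (isAffineOpen_top _) ?_ x
  exact MulEquiv.isField (Field.toIsField k)
    (Scheme.ΓSpecIso (CommRingCat.of k)).commRingCatIsoToRingEquiv.toMulEquiv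

/-- If `h` has trivial residue field transcendence degree at `w`, the closures of `w` and `h w` have the same
dimension. -/
theorem dim_closure_eq {X W : Scheme.{u}} (f : X ⟶ Spec (CommRingCat.of k)) [LocallyOfFiniteType f]
    (h : W ⟶ X) [LocallyOfFiniteType h] (w : W) (hw : rtd h w = 0) :
    topologicalKrullDim (closure {w} : Set W) = topologicalKrullDim (closure {h w} : Set X) := by
  obtain ⟨n, hn, hn'⟩ := exists_dim k X f (h w)
  obtain ⟨m, hm, hm'⟩ := exists_dim k W (h ≫ f) w
  rw [rtd_comp, hw, add_zero, hn] at hm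
  rw [hn', hm', Nat.cast_inj.mp hm]

end Groth.Agent.Vancyc.H175.DimBir
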