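import Groth.Agent.Fga.PicMon
import Groth.Agent.Ega3B.PullTensor
import Groth.Agent.Ega2.TwistInv
import Groth.Agent.Ega2.VeryAmpleAmple
import Groth.Agent.Vancyc.H175.DimBir
import Mathlib.Topology.KrullDimension

/-!
# Twists on closed subschemes of projective space; dimension of birational models
-/

set_option autoImplicit false
universe u
open CategoryTheory CategoryTheory.Limits AlgebraicGeometry TopologicalSpace

namespace Groth.Agent.Vancyc.H175.TwistBook

open Groth.Agent.Ega2

theorem nonempty_tensorPow_mul {X : Scheme.{u}} (A : X.Modules) (a b : ℕ) :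
    Nonempty (CohB1.tensorPow (CohB1.tensorPow A a) b ≅ CohB1.tensorPow A (a * b)) := by
  rw [← Fga.PicMon.mc_eq_iff, Fga.PicMon.mc_tensorPow, Fga.PicMon.mc_tensorPow, Fga.PicMon.mc_tensorPow, pow_mul]

theorem isInvertible_twist (k : Type u) [Field k] (r : ℕ) (d : ℤ) :
    PicF.IsInvertible (Twist.twistProjSpace r k d) :=
  VeryAmpleAmple.isInvertible_twistProjSpace r k d

/-- `O(-1)^{⊗ M}|_Z = O(-M)|_Z`. -/
theorem nonempty_pull_twist (k : Type u) [Field k] (r : ℕ) {Z : Scheme.{u}} (i : Z ⟶ CohB1.ProjSpace r k) (M : ℕ) :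
    Nonempty (CohB1.tensorPow ((Scheme.Modules.pullback i).obj (Twist.twistProjSpace r k (-1))) M ≅
      (Scheme.Modules.pullback i).obj (Twist.twistProjSpace r k (-(M : ℤ)))) := by
  obtain ⟨e⟩ := TwistInv.nonempty_tensorPow_iso (VeryAmpleAmple.coveredByOne_poly (n := r) (R := k)) (-1) M
  have h : (M : ℤ) * (-1) = -(M : ℤ) := by ring
  rw [h] at e
  obtain ⟨e'⟩ := Groth.Agent.Ega3B.PullTensor.nonempty_pullPowIso i (isInvertible_twist k r (-1)) M
  exact ⟨e'.symm ≪≫ (Scheme.Modules.pullback i).mapIso e⟩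

/-- A birational model over a field has the same dimension. -/
theorem topologicalKrullDim_eq (k : Type u) [Field k] {Z Z' : Scheme.{u}} [IsIntegral Z] [IsIntegral Z']
    (f : Z ⟶ Spec (CommRingCat.of k)) [LocallyOfFiniteType f] (g : Z' ⟶ Z) [LocallyOfFiniteType g]
    (U : Z.Opens) (hU : (U : Set Z).Nonempty) [IsIso (g ∣_ U)] :
    topologicalKrullDim Z' = topologicalKrullDim Z := by
  have hgU : genericPoint Z ∈ U := ((genericPoint_spec Z).mem_open_set_iff U.isOpen).mpr (by simpa using hU)
  have h1 := DimBir.map_genericPoint g U hgU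
  have h2 := DimBir.dim_closure_eq k f g (genericPoint Z') (DimBir.rtd_eq_zero_of_isIso g U (h1 ▸ hgU))
  rw [h1, genericPoint_closure, genericPoint_closure] at h2
  have e : ∀ T : Scheme.{u}, topologicalKrullDim (Set.univ : Set T) = topologicalKrullDim T := fun T =>
    IsHomeomorph.topologicalKrullDim_eq _ (Homeomorph.Set.univ T).isHomeomorph
  rwa [e, e] at h2

end Groth.Agent.Vancyc.H175.TwistBook
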