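import Groth.Agent.Vancyc.H175.Bir
import Groth.Agent.Vancyc.H175.Chow
import Groth.Agent.Vancyc.H175.Poly
import Groth.Agent.Vancyc.H175.TwistBook
import Groth.Agent.Vancyc.H175.KosOf

/-!
# Assembly of the coherent half of (B3)

`b3coh_of`: from (Kos) and (Simple), with (V), (Bir), (Chow), (Poly): for `G` of rank `m = dim Z` on `Z` integral proper over
`k` algebraically closed and `n > 0` there is a birational model `g : Z' ⟶ Z`, `B` invertible on `Z'` and
`t : g^* G ⊗ B^{⊗ n} ⟶ O_{Z'}` with finitely many simple zeros, whose number is congruent to `c k m G` modulo `n`.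
-/

set_option autoImplicit false
universe u
open CategoryTheory CategoryTheory.Limits AlgebraicGeometry TopologicalSpace

namespace Groth.Agent.Vancyc.H175.B3Asm

open Groth.Agent.Vancyc.H326.ChiLam (zeroIdeal IsSimpleZero isFinLocFree_of_rank)

/-- (Kos) in the form used here: the number of simple zeros is `c k m G`. -/
def KosStmt (k : Type u) [Field k] : Prop :=
  ∀ (X : Scheme.{u}) [X.Over (Spec (CommRingCat.of k))] [IsProper (X ↘ Spec (CommRingCat.of k))] [IsIntegral X] (m : ℕ)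
    (G : X.Modules), FlatMod.IsFinLocFreeOfRank m G → topologicalKrullDim X = m → ∀ (t : G ⟶ Coh.structureModule X)
    (F : Finset X), (∀ z ∈ F, IsClosed ({z} : Set X) ∧ IsSimpleZero t z) → (∀ z ∉ F, zeroIdeal t z = ⊤) →
      (F.card : ℤ) = Groth.Agent.Vancyc.H326.ChiLam.c k m G

theorem kosStmt (k : Type u) [Field k] [IsAlgClosed k] : KosStmt k := fun X _ _ _ m G hG hm t F h1 h2 =>
  KosOf.card_eq_c k X m G hG hm t F h1 h2

/-- (Simple). -/
def SimpleStmt (k : Type u) [Field k] : Prop :=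
  ∀ (r : ℕ) (Z : Scheme.{u}) [IsIntegral Z] (i : Z ⟶ CohB1.ProjSpace r k) [IsClosedImmersion i] (m : ℕ)
    (G : Z.Modules), FlatMod.IsFinLocFreeOfRank m G → topologicalKrullDim Z = m →
    ∃ M₀ : ℕ, ∀ M : ℕ, M₀ ≤ M →
      ∃ (t : CohB1.tensorMod G ((Scheme.Modules.pullback i).obj (Twist.twistProjSpace r k (-(M : ℤ)))) ⟶
          Coh.structureModule Z) (F : Finset Z),
        (∀ z ∈ F, IsClosed ({z} : Set Z) ∧ IsSimpleZero t z) ∧ ∀ z ∉ F, zeroIdeal t z = ⊤

theorem zeroIdeal_iso {X : Scheme.{u}} {G G' : X.Modules} (e : G' ≅ G) (t : G ⟶ Coh.structureModule X) (z : X) :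
    zeroIdeal (e.hom ≫ t) z = zeroIdeal t z := by
  unfold zeroIdeal
  congr 1
  ext b
  constructor
  · rintro ⟨U, hz, s, rfl⟩
    exact ⟨U, hz, e.hom.app U s, rfl⟩
  · rintro ⟨U, hz, s, rfl⟩
    refine ⟨U, hz, e.inv.app U s, ?_⟩
    have h : e.hom.app U (e.inv.app U s) = s := congr(($(e.inv_hom_id)).app U s)
    change _ = X.presheaf.germ U z hz (t.app U (e.hom.app U (e.inv.app U s)))
    rw [h]

theorem b3coh_of (k : Type u) [Field k] (hKos : KosStmt k) (hSimple : SimpleStmt k) {Z : Scheme.{u}}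
    [Z.Over (Spec (CommRingCat.of k))] [IsProper (Z ↘ Spec (CommRingCat.of k))] [IsIntegral Z] {m : ℕ}
    (hm : topologicalKrullDim Z = m) {G : Z.Modules} (hG : FlatMod.IsFinLocFreeOfRank m G) {n : ℕ} (hn : 0 < n) :
    ∃ (Z' : Scheme.{u}) (_ : Z'.Over (Spec (CommRingCat.of k))) (g : Z' ⟶ Z) (U : Z.Opens) (B : Z'.Modules)
      (t : CohB1.tensorMod ((Scheme.Modules.pullback g).obj G) (CohB1.tensorPow B n) ⟶ Coh.structureModule Z')
      (F : Finset Z'),
      IsIntegral Z' ∧ IsProper (Z' ↘ Spec (CommRingCat.of k)) ∧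
      g ≫ (Z ↘ Spec (CommRingCat.of k)) = Z' ↘ Spec (CommRingCat.of k) ∧ IsProper g ∧
      (U : Set Z).Nonempty ∧ IsIso (g ∣_ U) ∧ topologicalKrullDim Z' = m ∧ PicF.IsInvertible B ∧
      (∀ z ∈ F, IsClosed ({z} : Set Z') ∧ IsSimpleZero t z) ∧ (∀ z ∉ F, zeroIdeal t z = ⊤) ∧
      (n : ℤ) ∣ (F.card : ℤ) - Groth.Agent.Vancyc.H326.ChiLam.c k m G := by
  obtain ⟨r, Z', g, i, U, hZ', hi, hio, hg, hU, hiso⟩ :=
    Chow.exists_projective_model k (Z ↘ Spec (CommRingCat.of k))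
  let oZ : Z'.Over (Spec (CommRingCat.of k)) := ⟨g ≫ (Z ↘ Spec (CommRingCat.of k))⟩
  have hp : IsProper (Z' ↘ Spec (CommRingCat.of k)) :=
    inferInstanceAs (IsProper (g ≫ (Z ↘ Spec (CommRingCat.of k))))
  have hover : g ≫ (Z ↘ Spec (CommRingCat.of k)) = Z' ↘ Spec (CommRingCat.of k) := rfl
  have hdim : topologicalKrullDim Z' = m :=
    (TwistBook.topologicalKrullDim_eq k (Z ↘ Spec (CommRingCat.of k)) g U hU).trans hm
  have hG' : FlatMod.IsFinLocFreeOfRank m ((Scheme.Modules.pullback g).obj G) :=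
    Krr.H482.PullLambda.isFinLocFreeOfRank_pullback g hG
  have hGf' := isFinLocFree_of_rank hG'
  -- `A = O(-1)`
  let A : Z'.Modules := (Scheme.Modules.pullback i).obj (Twist.twistProjSpace r k (-1))
  have hA1 : FlatMod.IsFinLocFreeOfRank 1 A := Krr.H482.PullLambda.isFinLocFreeOfRank_pullback i
    (Ega2.QCohLocal.isFinLocFreeOfRank_one_iff.2 (TwistBook.isInvertible_twist k r (-1)))
  have hA : PicF.IsInvertible A := Ega2.QCohLocal.isFinLocFreeOfRank_one_iff.1 hA1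
  obtain ⟨D, hD, hdvd⟩ := Poly.exists_dvd k hdim.le hGf' hA m n hn
  obtain ⟨M₀, hM₀⟩ := hSimple r Z' i m _ hG' hdim
  let M' : ℕ := D * (M₀ + 1)
  have hM' : M₀ ≤ M' * n := by
    have h1 : M₀ + 1 ≤ D * (M₀ + 1) := Nat.le_mul_of_pos_left _ hD
    have h2 : D * (M₀ + 1) ≤ D * (M₀ + 1) * n := Nat.le_mul_of_pos_right _ hn
    exact (Nat.le_succ M₀).trans (h1.trans h2)
  obtain ⟨t, F, hF, hF'⟩ := hM₀ (M' * n) hM'
  obtain ⟨e1⟩ := TwistBook.nonempty_pull_twist k r i (M' * n)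
  obtain ⟨e2⟩ := TwistBook.nonempty_tensorPow_mul A M' n
  have hAM1 : FlatMod.IsFinLocFreeOfRank 1 (CohB1.tensorPow A (M' * n)) :=
    Ega2.QCohLocal.isFinLocFreeOfRank_one_iff.2 (Poly.isInvertible_tensorPow hA _)
  let e3 : CohB1.tensorMod ((Scheme.Modules.pullback g).obj G) (CohB1.tensorPow A (M' * n)) ≅
      CohB1.tensorMod ((Scheme.Modules.pullback g).obj G)
        ((Scheme.Modules.pullback i).obj (Twist.twistProjSpace r k (-((M' * n : ℕ) : ℤ)))) :=
    Ega2.Tens.mapTIso (Iso.refl _) e1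
  let e4 : CohB1.tensorMod ((Scheme.Modules.pullback g).obj G) (CohB1.tensorPow (CohB1.tensorPow A M') n) ≅
      CohB1.tensorMod ((Scheme.Modules.pullback g).obj G) (CohB1.tensorPow A (M' * n)) :=
    Ega2.Tens.mapTIso (Iso.refl _) e2
  refine ⟨Z', oZ, g, U, CohB1.tensorPow A M', (e4 ≪≫ e3).hom ≫ t, F, hZ', hp, hover, hg, hU, hiso, hdim,
    Poly.isInvertible_tensorPow hA _, ?_, ?_, ?_⟩
  · intro z hz
    obtain ⟨h1, h2⟩ := hF z hz
    exact ⟨h1, h2.1, (zeroIdeal_iso _ _ _).trans h2.2⟩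
  · intro z hz
    exact (zeroIdeal_iso _ _ _).trans (hF' z hz)
  · have hrk : FlatMod.IsFinLocFreeOfRank m
        (CohB1.tensorMod ((Scheme.Modules.pullback g).obj G) (CohB1.tensorPow A (M' * n))) := by
      have := Krr.H495.Rank.rank_tensor hG' hAM1
      rwa [mul_one] at this
    have hk := hKos Z' m _ hrk hdim (e3.hom ≫ t) F
      (fun z hz => ⟨(hF z hz).1, (hF z hz).2.1, (zeroIdeal_iso e3 t z).trans (hF z hz).2.2⟩)
      (fun z hz => (zeroIdeal_iso e3 t z).trans (hF' z hz))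
    have hb := Bir.c_pullback_eq k g hover U hU hm.le hG
    rw [hk, ← hb]
    exact hdvd _ (Dvd.intro _ (by rw [Nat.mul_assoc] : D * ((M₀ + 1) * n) = M' * n))

/-- The coherent half of (B3) from (Simple) alone. -/
theorem b3coh_of_simple (k : Type u) [Field k] [IsAlgClosed k] (hSimple : SimpleStmt k) {Z : Scheme.{u}}
    [Z.Over (Spec (CommRingCat.of k))] [IsProper (Z ↘ Spec (CommRingCat.of k))] [IsIntegral Z] {m : ℕ}
    (hm : topologicalKrullDim Z = m) {G : Z.Modules} (hG : FlatMod.IsFinLocFreeOfRank m G) {n : ℕ} (hn : 0 < n) :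
    ∃ (Z' : Scheme.{u}) (_ : Z'.Over (Spec (CommRingCat.of k))) (g : Z' ⟶ Z) (U : Z.Opens) (B : Z'.Modules)
      (t : CohB1.tensorMod ((Scheme.Modules.pullback g).obj G) (CohB1.tensorPow B n) ⟶ Coh.structureModule Z')
      (F : Finset Z'),
      IsIntegral Z' ∧ IsProper (Z' ↘ Spec (CommRingCat.of k)) ∧
      g ≫ (Z ↘ Spec (CommRingCat.of k)) = Z' ↘ Spec (CommRingCat.of k) ∧ IsProper g ∧
      (U : Set Z).Nonempty ∧ IsIso (g ∣_ U) ∧ topologicalKrullDim Z' = m ∧ PicF.IsInvertible B ∧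
      (∀ z ∈ F, IsClosed ({z} : Set Z') ∧ IsSimpleZero t z) ∧ (∀ z ∉ F, zeroIdeal t z = ⊤) ∧
      (n : ℤ) ∣ (F.card : ℤ) - Groth.Agent.Vancyc.H326.ChiLam.c k m G :=
  b3coh_of k (kosStmt k) hSimple hm hG hn

end Groth.Agent.Vancyc.H175.B3Asm
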