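import Groth.Agent.Vancyc.H175.SecData
import Groth.Agent.Vancyc.H175.B3Asm
import Groth.Agent.Vancyc.H293.SimpleOf

/-!
# The coherent half of (B3)

`simpleStmt`: (Simple).  `b3coh`: for `G` of rank `m = dim Z` on `Z` integral proper over `k` algebraically closed and
`n > 0` there is a birational model `g : Z' ⟶ Z`, `B` invertible on `Z'` and `t : g^* G ⊗ B^{⊗ n} ⟶ O_{Z'}` with
finitely many simple zeros, whose number is congruent to `c k m G` modulo `n`.
-/

set_option autoImplicit false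
universe u
open CategoryTheory CategoryTheory.Limits AlgebraicGeometry TopologicalSpace

namespace Groth.Agent.Vancyc.H175.B3Coh

open Groth.Agent.Vancyc.H326.ChiLam (zeroIdeal IsSimpleZero)

/-- **(Simple)** -/
theorem simpleStmt (k : Type u) [Field k] [IsAlgClosed k] : B3Asm.SimpleStmt k := by
  intro r Z _ i _ m G hG hm
  obtain ⟨M₀, h⟩ := SecData.exists_data k r i hG
  have hno : IsLocallyNoetherian Z := LocallyOfFiniteType.isLocallyNoetherian (i ≫ CohB1.ProjSpace.toSpec r k)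
  have hcp : CompactSpace Z := QuasiCompact.compactSpace_of_compactSpace (i ≫ CohB1.ProjSpace.toSpec r k)
  refine ⟨M₀, fun M hM => ?_⟩
  obtain ⟨L, _, t, ht⟩ := h M hM
  exact Groth.Agent.Vancyc.H293.SimpleOf.exists_simple k (i ≫ CohB1.ProjSpace.toSpec r k) t hm ht

/-- **The coherent half of (B3).** -/
theorem b3coh (k : Type u) [Field k] [IsAlgClosed k] {Z : Scheme.{u}}
    [Z.Over (Spec (CommRingCat.of k))] [IsProper (Z ↘ Spec (CommRingCat.of k))] [IsIntegral Z] {m : ℕ}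
    (hm : topologicalKrullDim Z = m) {G : Z.Modules} (hG : FlatMod.IsFinLocFreeOfRank m G) {n : ℕ} (hn : 0 < n) :
    ∃ (Z' : Scheme.{u}) (_ : Z'.Over (Spec (CommRingCat.of k))) (g : Z' ⟶ Z) (U : Z.Opens) (B : Z'.Modules)
      (t : CohB1.tensorMod ((Scheme.Modules.pullback g).obj G) (CohB1.tensorPow B n) ⟶ Coh.structureModule Z')
      (F : Finset Z'),
      IsIntegral Z' ∧ IsProper (Z' ↘ Spec (CommRingCat.of k)) ∧
      g ≫ (Z ↘ Spec (CommRingCat.of k)) = Z' ↘ Spec (CommRingCat.of k) ∧ IsProper g ∧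
      (U : Set Z).Nonempty ∧ IsIso (g ∣_ U) ∧ topologicalKrullDim Z' = m ∧ PicF.IsInvertible B ∧
      (∀ z ∈ F, IsClosed ({z} : Set Z') ∧ IsSimpleZero t z) ∧ (∀ z ∉ F, zeroIdeal t z = ⊤) ∧
      (n : ℤ) ∣ (F.card : ℤ) - Groth.Agent.Vancyc.H326.ChiLam.c k m G :=
  B3Asm.b3coh_of_simple k (simpleStmt k) hm hG hn

end Groth.Agent.Vancyc.H175.B3Coh
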