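import Groth.Agent.Vancyc.H175.TensAdd
import Groth.Agent.Krr.H487.Taut
import Groth.Agent.Krr.H495.Model

/-!
# The alternating sum of exterior powers and invertible quotients

`alt_eq_sub`: for an epimorphism `q : E ⟶ J` from a bundle of rank `r + 1` onto an invertible module,
`Σ (-1)^i χ(Λ^i E) = Σ (-1)^i χ(Λ^i (ker q)) - Σ (-1)^i χ(J ⊗ Λ^i (ker q))`.
-/

set_option autoImplicit false
universe u
open CategoryTheory CategoryTheory.Limits AlgebraicGeometry

namespace Groth.Agent.Vancyc.H175.AltLine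

open Groth.Agent.Fga.ChiBasic TensAdd Groth.Agent.Sga67.KvbRing Groth.Agent.Sga67.LocBasis
open Groth.Agent.Sga67.TensorOps

variable {X : Scheme.{u}}

theorem isCoh_of_isFinLocFree {E : X.Modules} (hE : FlatMod.IsFinLocFree E) : Coh.IsCoh E :=
  Groth.Agent.PerfA.CohSerre.isCoh_of_isFinLocFree hE

/-- `χ` on `K₀` of bundles. -/
noncomputable def chiK {χ : X.Modules → ℤ} (hχ : IsAdd χ) : SGA6.Kvb X →+ ℤ :=
  lift (fun E => χ E.1) (fun S h₁ h₂ h₃ hS => hχ S hS (isCoh_of_isFinLocFree h₁)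
    (isCoh_of_isFinLocFree h₂) (isCoh_of_isFinLocFree h₃))

theorem chiK_c {χ : X.Modules → ℤ} (hχ : IsAdd χ) {E : X.Modules} (hE : FlatMod.IsFinLocFree E) :
    chiK hχ (c E) = χ E := lift_c _ _ E hE

/-- `χ` on the ring `KR X`. -/
noncomputable def chiR {χ : X.Modules → ℤ} (hχ : IsAdd χ) : KR X →+ ℤ :=
  (chiK hχ).comp (toKR X).symm.toAddMonoidHom

theorem chiR_c {χ : X.Modules → ℤ} (hχ : IsAdd χ) {E : X.Modules} (hE : FlatMod.IsFinLocFree E) :
    chiR hχ (toKR X (c E)) = χ E := by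
  rw [← chiK_c hχ hE]
  change chiK hχ ((toKR X).symm (toKR X (c E))) = _
  rw [AddEquiv.symm_apply_apply]

open Groth.Agent.Krr.H495.Model Groth.Agent.Krr.H487.Taut Groth.Agent.Krr.H487.KerRank

theorem sum_eq {K : Type*} [CommRing K] [LambdaRing.LambdaOps K] (ψ : K →+ ℤ) (h l : K)
    (hl : ∀ i : ℕ, 1 < i → LambdaRing.LambdaOps.lam i l = 0) (r : ℕ)
    (hh : LambdaRing.LambdaOps.lam (r + 1) h = 0) :
    ∑ i ∈ Finset.range (r + 2), (-1 : ℤ) ^ i * ψ (LambdaRing.LambdaOps.lam i (h + l)) =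
      ∑ i ∈ Finset.range (r + 1), (-1 : ℤ) ^ i * ψ (LambdaRing.LambdaOps.lam i h) -
        ∑ i ∈ Finset.range (r + 1), (-1 : ℤ) ^ i * ψ (l * LambdaRing.LambdaOps.lam i h) := by
  have h0 : ∑ i ∈ Finset.range (r + 2), (-1 : ℤ) ^ i * ψ (LambdaRing.LambdaOps.lam i h) =
      ∑ i ∈ Finset.range (r + 1), (-1 : ℤ) ^ i * ψ (LambdaRing.LambdaOps.lam i h) := by
    rw [Finset.sum_range_succ, hh, map_zero, mul_zero, add_zero]
  rw [← h0, Finset.sum_range_succ', Finset.sum_range_succ' (n := r + 1)]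
  simp only [lam_add_line h l hl, LambdaRing.LambdaOps.lam_zero, map_add]
  rw [add_sub_right_comm, add_left_inj, ← Finset.sum_sub_distrib]
  refine Finset.sum_congr rfl fun i _ => ?_
  rw [mul_comm l]
  ring

theorem alt_eq_sub {χ : X.Modules → ℤ} (hχ : IsAdd χ) [ConnectedSpace X] {r : ℕ} {E J : X.Modules}
    (hE : FlatMod.IsFinLocFreeOfRank (r + 1) E) (hJ : FlatMod.IsFinLocFreeOfRank 1 J) (q : E ⟶ J) [Epi q]
    {L L' : ℕ → X.Modules} (hL : ∀ i, ExtPow.IsExtPow i E (L i))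
    (hL' : ∀ i, ExtPow.IsExtPow i (kernel q) (L' i)) :
    alt χ (r + 1) L (Coh.structureModule X) =
      alt χ r L' (Coh.structureModule X) - alt χ r L' J := by
  have hH := isFinLocFreeOfRank_kernel q hE hJ
  have hE' := isFinLocFree_of_rank hE
  have hJ' := isFinLocFree_of_rank hJ
  have hH' := isFinLocFree_of_rank hH
  have hLf : ∀ i, FlatMod.IsFinLocFree (L i) := fun i => isFinLocFree_of_isExtPow hE' (hL i)
  have hLf' : ∀ i, FlatMod.IsFinLocFree (L' i) := fun i => isFinLocFree_of_isExtPow hH' (hL' i)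
  have key := sum_eq (chiR hχ) (toKR X (c (kernel q))) (toKR X (c J))
    (fun i hi => lam_cl_eq_zero (isModel X) hJ hi) r (lam_cl_eq_zero (isModel X) hH (Nat.lt_succ_self r))
  have e1 : toKR X (c (kernel q)) + toKR X (c J) = toKR X (c E) :=
    (cl_ses (φ := (toKR X).toAddMonoidHom) (shortExact_kernel q) hH' hE' hJ').symm
  rw [e1] at key
  have eO : ∀ {M : X.Modules}, FlatMod.IsFinLocFree M →
      χ (CohB1.tensorMod (Coh.structureModule X) M) = χ M := fun hM =>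
    chi_iso hχ (tensorUnit _) (isCoh_tensor (isCoh_of_isFinLocFree isFinLocFree_structureModule) hM)
  have s1 : alt χ (r + 1) L (Coh.structureModule X) = ∑ i ∈ Finset.range (r + 2),
      (-1 : ℤ) ^ i * chiR hχ (LambdaRing.LambdaOps.lam i (toKR X (c E))) := by
    rw [alt]
    refine Finset.sum_congr rfl fun i _ => ?_
    rw [lam_toKR X i E (L i) hE' (hL i), chiR_c hχ (hLf i), eO (hLf i)]
  have s2 : alt χ r L' (Coh.structureModule X) = ∑ i ∈ Finset.range (r + 1),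
      (-1 : ℤ) ^ i * chiR hχ (LambdaRing.LambdaOps.lam i (toKR X (c (kernel q)))) := by
    rw [alt]
    refine Finset.sum_congr rfl fun i _ => ?_
    rw [lam_toKR X i _ (L' i) hH' (hL' i), chiR_c hχ (hLf' i), eO (hLf' i)]
  have s3 : alt χ r L' J = ∑ i ∈ Finset.range (r + 1),
      (-1 : ℤ) ^ i * chiR hχ (toKR X (c J) * LambdaRing.LambdaOps.lam i (toKR X (c (kernel q)))) := by
    rw [alt]
    refine Finset.sum_congr rfl fun i _ => ?_
    rw [lam_toKR X i _ (L' i) hH' (hL' i), toKR_c_mul X hJ' (hLf' i),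
      chiR_c hχ (isFinLocFree_tensorMod hJ' (hLf' i))]
  rw [s1, s2, s3]
  exact key

end Groth.Agent.Vancyc.H175.AltLine
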