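import Groth.Agent.Vancyc.H175.Van
import Groth.Agent.Vancyc.H326.ChiLam
import Groth.Agent.Fga.Compare

/-!
# The classes `Σ (-1)^i χ(Λ^i G)`: vanishing (V) and birational invariance (Bir)

* `cF_eq_zero`: `Σ (-1)^i χ(X, F ⊗ Λ^i G) = 0` for `dim Supp F < rank G`;
* `c_pullback_eq`: `c k m (g^* G) = c k m G` for `g : Z' ⟶ Z` proper birational, `dim Z ≤ m = rank G`.
-/

set_option autoImplicit false
universe u
open CategoryTheory CategoryTheory.Limits AlgebraicGeometry TopologicalSpace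

namespace Groth.Agent.Vancyc.H175.Bir

open Groth.Agent.Fga.ChiBasic Groth.Agent.Fga TensAdd Leray AltLine Groth.Agent.Sga67.LocBasis
open Groth.Agent.Vancyc.H326 (ChiLam.c ChiLam.cF)
open Groth.Agent.Vancyc.H326.ChiLam (extPow isExtPow_extPow isFinLocFree_extPow isFinLocFree_of_rank)

variable (k : Type u) [Field k]

/-- **(V)** `Σ (-1)^i χ(X, F ⊗ L_i) = 0` for `L_i` the exterior powers of a bundle `G` of rank `> dim Supp F`. -/
theorem alt_eq_zero {X : Scheme.{u}} [X.Over (Spec (CommRingCat.of k))]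
    [IsProper (X ↘ Spec (CommRingCat.of k))] {r : ℕ} {G : X.Modules}
    (hG : FlatMod.IsFinLocFreeOfRank r G) {L : ℕ → X.Modules} (hL : ∀ i, ExtPow.IsExtPow i G (L i))
    {F : X.Modules} (hF : Coh.IsCoh F)
    (hd : topologicalKrullDim (CohB1.support F) < (r : WithBot ℕ∞)) :
    ∑ i ∈ Finset.range (r + 1), (-1 : ℤ) ^ i * Curv2.euler k X (CohB1.tensorMod F (L i)) = 0 :=
  Van.stmt k r X r le_rfl G hG L hL F hF hd

/-- **(V)** -/
theorem cF_eq_zero {X : Scheme.{u}} [X.Over (Spec (CommRingCat.of k))]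
    [IsProper (X ↘ Spec (CommRingCat.of k))] {r : ℕ} {G : X.Modules}
    (hG : FlatMod.IsFinLocFreeOfRank r G) {F : X.Modules} (hF : Coh.IsCoh F)
    (hd : topologicalKrullDim (CohB1.support F) < (r : WithBot ℕ∞)) :
    Groth.Agent.Vancyc.H326.ChiLam.cF k r F G = 0 :=
  Van.stmt k r X r le_rfl G hG _ (isExtPow_extPow (isFinLocFree_of_rank hG)) F hF hd

/-- `c k r G = cF k r O G`. -/
theorem alt_unit {X : Scheme.{u}} [X.Over (Spec (CommRingCat.of k))] (r : ℕ) {G : X.Modules}
    (hG : FlatMod.IsFinLocFree G) {L : ℕ → X.Modules} (hL : ∀ i, ExtPow.IsExtPow i G (L i)) :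
    alt (Curv2.euler k X) r L (Coh.structureModule X) = Groth.Agent.Vancyc.H326.ChiLam.c k r G := by
  rw [Groth.Agent.Vancyc.H326.ChiLam.c_eq k hG fun i _ => hL i]
  refine Finset.sum_congr rfl fun i _ => ?_
  rw [Groth.Agent.Vancyc.H326.ChiLam.euler_iso k (Sga67.TensorOps.tensorUnit (L i))]

/-- `O_Z ⟶ g_* O_{Z'}`. -/
noncomputable def toPush {Z Z' : Scheme.{u}} (g : Z' ⟶ Z) :
    Coh.structureModule Z ⟶ (Coh.push g).obj (Coh.structureModule Z') :=
  Fdesc.LocGen.homOf (show Γ((Coh.push g).obj (Coh.structureModule Z'), ⊤) from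
    (show Γ(Coh.structureModule Z', g ⁻¹ᵁ ⊤) from (1 : Γ(Z', g ⁻¹ᵁ ⊤))))

theorem toPush_bijective {Z Z' : Scheme.{u}} (g : Z' ⟶ Z) (U : Z.Opens) [h : IsIso (g ∣_ U)] (V : Z.Opens)
    (hV : V ≤ U) : Function.Bijective ((toPush g).app V) := by
  have h1 := CohqB.GenTriv.isGen_one_push g U h V hV
  have h2 : Fdesc.LocGen.res ((Coh.push g).obj (Coh.structureModule Z')) hV
      (show Γ((Coh.push g).obj (Coh.structureModule Z'), U) from
        (show Γ(Coh.structureModule Z', g ⁻¹ᵁ U) from (1 : Γ(Z', g ⁻¹ᵁ U)))) =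
      Fdesc.LocGen.res ((Coh.push g).obj (Coh.structureModule Z')) le_top
      (show Γ((Coh.push g).obj (Coh.structureModule Z'), ⊤) from
        (show Γ(Coh.structureModule Z', g ⁻¹ᵁ ⊤) from (1 : Γ(Z', g ⁻¹ᵁ ⊤)))) := by
    refine Eq.trans (b := (show Γ(Coh.structureModule Z', g ⁻¹ᵁ V) from (1 : Γ(Z', g ⁻¹ᵁ V)))) ?_ ?_
    · exact map_one (Z'.presheaf.map (homOfLE (Scheme.Hom.preimage_mono g hV)).op).hom
    · exact (map_one (Z'.presheaf.map (homOfLE (Scheme.Hom.preimage_mono g le_top)).op).hom).symm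
  rw [h2] at h1
  exact h1

variable {Z Z' : Scheme.{u}} [Z.Over (Spec (CommRingCat.of k))] [Z'.Over (Spec (CommRingCat.of k))]
  [IsProper (Z ↘ Spec (CommRingCat.of k))] [IsProper (Z' ↘ Spec (CommRingCat.of k))]

/-- **(Bir)** Birational invariance of `Σ (-1)^i χ(Λ^i G)` for `dim Z ≤ m = rank G`. -/
theorem c_pullback_eq [IrreducibleSpace Z] (g : Z' ⟶ Z)
    (hg : g ≫ (Z ↘ Spec (CommRingCat.of k)) = Z' ↘ Spec (CommRingCat.of k)) (U : Z.Opens)
    (hU : (U : Set Z).Nonempty) [IsIso (g ∣_ U)] {m : ℕ} (hm : topologicalKrullDim Z ≤ m) {G : Z.Modules}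
    (hG : FlatMod.IsFinLocFreeOfRank m G) :
    Groth.Agent.Vancyc.H326.ChiLam.c k m ((Scheme.Modules.pullback g).obj G) =
      Groth.Agent.Vancyc.H326.ChiLam.c k m G := by
  have := isNoetherian k Z
  have hGf := isFinLocFree_of_rank hG
  have hL := isExtPow_extPow hGf
  have hT : topologicalKrullDim ((U : Set Z)ᶜ : Set Z) < (m : WithBot ℕ∞) := by
    refine DimLt.topologicalKrullDim_lt (IrreducibleSpace.isIrreducible_univ Z) U.2.isClosed_compl
      (Set.subset_univ _) ?_ ?_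
    · intro h
      obtain ⟨x, hx⟩ := hU
      have : x ∈ U.carrierᶜ := by rw [h]; trivial
      exact this hx
    · have h1 : topologicalKrullDim (Set.univ : Set Z) ≤ topologicalKrullDim Z :=
        (Homeomorph.Set.univ Z).isInducing.topologicalKrullDim_le
      refine lt_of_le_of_lt (h1.trans hm) ?_
      exact_mod_cast Nat.lt_succ_self m
  have hO : Coh.IsCoh (Coh.structureModule Z) :=
    isCoh_of_isFinLocFree Sga67.TensorOps.isFinLocFree_structureModule
  have hO' : Coh.IsCoh (Coh.structureModule Z') :=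
    isCoh_of_isFinLocFree Sga67.TensorOps.isFinLocFree_structureModule
  have hfin : ∀ z ∉ (U : Set Z)ᶜ, (g.base ⁻¹' {z}).Finite := by
    intro z hz
    have hzU : z ∈ U := by
      by_contra h
      exact hz h
    refine Set.Subsingleton.finite fun a ha b hb => ?_
    have ha' : g a = z := ha
    have hb' : g b = z := hb
    exact DimBir.injOn_of_isIso g U (ha' ▸ hzU) (ha'.trans hb'.symm)
  have hpush := Van.alt_push_of_small k (Van.stmt k m) g hg le_rfl hG hL hO' _ hfin hT
  have hinj := hasInjectiveResolutions Z'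
  have hpc : Coh.IsCoh ((Coh.push g).obj (Coh.structureModule Z')) :=
    Sga67.CohBasic.isCoh_of_iso
      ((Scheme.Modules.pushforward g).rightDerivedZeroIsoSelf.app (Coh.structureModule Z'))
      (isCoh_rpush k g hg hO' 0)
  have hA : IsAdd (alt (Curv2.euler k Z) m (extPow G)) :=
    isAdd_alt (isAdd_euler k Z) m fun i => isFinLocFree_extPow hGf i
  have small : ∀ K : Z.Modules, Coh.IsCoh K → (∀ z ∈ U, z ∉ CohB1.support K) →
      alt (Curv2.euler k Z) m (extPow G) K = 0 := by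
    intro K hK h1
    refine Van.stmt k m Z m le_rfl G hG _ hL K hK (lt_of_le_of_lt ?_ hT)
    exact DimLt.topologicalKrullDim_mono fun z hz hzU => h1 z hzU hz
  have key := chi_map hA (toPush g) hO hpc
  rw [small _ (Sga67.CohBasic.isCoh_cokernel _ hO.1 hpc) (Compare.not_mem_support_cokernel U _
      fun V hV n => (toPush_bijective g U V hV).2 n),
    small _ (Sga67.CohBasic.isCoh_kernel _ hO hpc.1) (Compare.not_mem_support_kernel U _
      fun V hV n hn => (toPush_bijective g U V hV).1 (hn.trans (map_zero _).symm)),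
    add_zero, add_zero] at key
  rw [← alt_unit k m hGf hL, ← alt_unit k m (Krr.H482.PullLambda.isFinLocFree_pullback g hGf)
    (fun j => Groth.Agent.Krr.H487.PullExt.isExtPow_pullback g hGf (hL j)), hpush, key]

end Groth.Agent.Vancyc.H175.Bir
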