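import Groth.Agent.Vancyc.H175.BirIso
import Groth.Agent.Krr.H490.PBExist
import Groth.Agent.Krr.H483.PBTop
import Groth.Agent.CycB.ImageInt
import Groth.Agent.Krr.H495.Rank
import Groth.Agent.Krr.H482.PullLambda

/-!
# An invertible quotient after a birational modification

`exists_modification`: for `G` finite locally free of rank `r + 1` on an integral Noetherian scheme `Z` there is a
proper birational `g : W ⟶ Z`, `W` integral, such that `g^* G` has an invertible quotient (`W` = closure of the graph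
of a rational section of `P(G)`).
-/

set_option autoImplicit false
universe u
open CategoryTheory CategoryTheory.Limits AlgebraicGeometry TopologicalSpace

namespace Groth.Agent.Vancyc.H175.BirSec

open Groth.Agent.Krr.H484.PBCharts (exists_triv)

/-- The sum map `O^{n+1} ⟶ O`. -/
noncomputable def sumMap (X : Scheme.{u}) (n : ℕ) : FlatMod.freeMod X (n + 1) ⟶ Coh.structureModule X :=
  Limits.Sigma.desc fun _ => 𝟙 _

instance (X : Scheme.{u}) (n : ℕ) : Epi (sumMap X n) := by
  have h : Limits.Sigma.ι (fun _ : Fin (n + 1) => Coh.structureModule X) 0 ≫ sumMap X n = 𝟙 _ :=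
    Limits.Sigma.ι_desc _ _
  have : Epi (Limits.Sigma.ι (fun _ : Fin (n + 1) => Coh.structureModule X) 0 ≫ sumMap X n) := by
    rw [h]; infer_instance
  exact epi_of_epi (Limits.Sigma.ι (fun _ : Fin (n + 1) => Coh.structureModule X) 0) _

theorem exists_modification {Z : Scheme.{u}} [IsIntegral Z] [IsLocallyNoetherian Z] {r : ℕ} {G : Z.Modules}
    (hG : FlatMod.IsFinLocFreeOfRank (r + 1) G) :
    ∃ (W : Scheme.{u}) (g : W ⟶ Z) (U : Z.Opens) (J : W.Modules)
      (q : (Scheme.Modules.pullback g).obj G ⟶ J),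
      IsIntegral W ∧ IsProper g ∧ genericPoint Z ∈ U ∧ IsIso (g ∣_ U) ∧
        FlatMod.IsFinLocFreeOfRank 1 J ∧ Epi q := by
  obtain ⟨P, π, O1, q, B⟩ := Groth.Agent.Krr.H490.PBExist.exists_isProjBundle hG
  have hπ : IsProper π := Groth.Agent.Krr.H483.PBTop.isProper hG B
  obtain ⟨V, hV, hx, ⟨t⟩⟩ := exists_triv hG (genericPoint Z)
  have hVne : Nonempty V := ⟨⟨_, hx⟩⟩
  have hdom : IsDomain Γ(Z, V) := inferInstance
  have hno : IsNoetherianRing Γ(Z, V) := IsLocallyNoetherian.component_noetherian ⟨V, hV⟩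
  have hrank : FlatMod.IsFinLocFreeOfRank 1 (Coh.structureModule (Spec Γ(Z, V))) :=
    Groth.Agent.Krr.H495.Rank.isFinLocFreeOfRank_structureModule
  obtain ⟨h, ⟨hh, -, -⟩, -⟩ := B.univ (Spec Γ(Z, V)) hV.fromSpec _ hrank (t.hom ≫ sumMap _ r)
    (epi_comp _ _)
  have hqc : QuasiCompact h := inferInstance
  have hW : IsIntegral h.image := Groth.Agent.CycB.ImageInt.isIntegral_image h
  have hg : IsProper (h.imageι ≫ π) := inferInstance
  have hcomp : h.toImage ≫ h.imageι ≫ π = hV.fromSpec := by
    rw [← Category.assoc, Scheme.Hom.toImage_imageι, hh]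
  have ho : IsOpenImmersion (h.toImage ≫ h.imageι ≫ π) := by rw [hcomp]; infer_instance
  refine ⟨h.image, h.imageι ≫ π, V, (Scheme.Modules.pullback h.imageι).obj O1,
    (Scheme.Modules.pullbackComp h.imageι π).inv.app G ≫ (Scheme.Modules.pullback h.imageι).map q,
    hW, hg, hx, ?_, ?_, ?_⟩
  · refine BirIso.isIso_restrict h.toImage (h.imageι ≫ π) ?_
    apply TopologicalSpace.Opens.ext
    rw [Scheme.Hom.coe_opensRange, hcomp, hV.range_fromSpec]
  · exact Groth.Agent.Krr.H482.PullLambda.isFinLocFreeOfRank_pullback h.imageι B.invertible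
  · have := B.epi
    have : Epi ((Scheme.Modules.pullback h.imageι).map q) := inferInstance
    exact epi_comp _ _

end Groth.Agent.Vancyc.H175.BirSec
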