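import Groth.Agent.Sga2lef.H503.HomExt
import Groth.Agent.Vancyc.H326.LocExact
import Groth.Agent.PerfA.CohSerre

/-!
# Global morphisms `G ⊗ P^{⊗ M} ⟶ O_X` extending a local dual basis

`X` integral, `P` invertible, `σ_j : P ⟶ O_X` with affine non-vanishing loci `U_j` covering `X`, `G` locally free of rank `m`.
For large `M` there is a finite family of morphisms `(It P M).obj G ⟶ O_X` which contains, locally on `X`, a dual basis and
its products with the ratios `σ_q / σ_j`.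
-/

set_option autoImplicit false
universe u
open CategoryTheory CategoryTheory.Limits AlgebraicGeometry Opposite TopologicalSpace

namespace Groth.Agent.Vancyc.H175.DualExt

open Groth.Agent.Ega4dA.GenSec (res resO IsGen res_self res_res res_smul res_add res_sub res_zero app_res eq_of_locally
  resO_resO resO_mul resO_zero)
open Groth.Agent.Sga2.TwIt Groth.Agent.Sga2.NegSec
open Groth.Agent.Sga2lef.H503.TwistIdeal Groth.Agent.Sga2lef.H503.ItCalc Groth.Agent.Sga2lef.H503.HomExt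
open Groth.Agent.CohqB.HomSheaf (homSheaf comp affineEquiv comp_affineEquiv_symm isQCoh_homSheaf)
open Groth.Agent.Sga67.LocBasis (IsLocBasis comb comb_apply toO)

variable {X : Scheme.{u}}

theorem isLocBasis_units_smul {M : X.Modules} {U : X.Opens} {κ : Type*} [Fintype κ] {b : κ → Sga67.Sec.Sec M U}
    (hb : IsLocBasis b) (v : κ → Γ(X, U)ˣ) : IsLocBasis (fun i => (v i : Γ(X, U)) • b i) := by
  intro V h
  let e : (κ → Γ(X, V)) ≃ (κ → Γ(X, V)) := Equiv.piCongrRight fun i =>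
    (Units.map (Sga67.Sec.resO X h).toMonoidHom (v i)).mulRight
  have h1 : (comb (fun i => (v i : Γ(X, U)) • b i) h : (κ → Γ(X, V)) → Sga67.Sec.Sec M V) = comb b h ∘ e := by
    funext a
    simp only [comb_apply, Function.comp_apply]
    refine Finset.sum_congr rfl fun i _ => ?_
    rw [Sga67.Sec.res_smul, ← mul_smul]
    rfl
  rw [h1]
  exact (hb V h).comp e.bijective

variable {P : X.Modules}

theorem isUnit_c {σ : Sec P 1} {U W : X.Opens} (hU : IsLocus σ U) (h : W ≤ U) (p : Γ(P, W)) (hp : IsGen P W p) :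
    IsUnit (σ.c W p hp) := by
  have h1 : W ≤ X.basicOpen (σ.c W p hp) := by rw [← hU W p hp]; exact le_inf le_rfl h
  have h2 := (isUnit_resO (σ.c W p hp)).map (X.presheaf.map (homOfLE h1).op).hom
  have h3 : (X.presheaf.map (homOfLE h1).op).hom (resO X (X.basicOpen_le (σ.c W p hp)) (σ.c W p hp)) =
      σ.c W p hp := by
    change resO X h1 (resO X _ _) = _
    rw [resO_resO, Groth.Agent.Ega4dA.GenSec.resO_self]
  rwa [h3] at h2

theorem tf_structure [IsIntegral X] {σ : Sec P 1} {U : X.Opens} (hU : IsLocus σ U) (hne : (U : Set X).Nonempty) :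
    TF σ (Coh.structureModule X) := by
  intro V p hp y hy
  by_cases hV : (V : Set X).Nonempty
  · have : Nonempty V := hV.to_subtype
    have h1 : σ.c V p hp * toO y = 0 := hy
    rcases mul_eq_zero.1 h1 with h | h
    · exfalso
      have h2 := hU V p hp
      rw [h, Scheme.basicOpen_zero] at h2
      obtain ⟨x, hx⟩ := nonempty_preirreducible_inter V.2 U.2 hV hne
      have : x ∈ V ⊓ U := hx
      rw [h2] at this
      exact this
    · exact h
  · have hV' : V = ⊥ := by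
      ext x
      simp only [Set.not_nonempty_iff_eq_empty] at hV
      rw [hV]
      rfl
    subst hV'
    exact eq_of_locally _ fun x hx => hx.elim

theorem exists_local [IsIntegral X] [IsLocallyNoetherian X] [CompactSpace X] (hP : PicF.IsInvertible P)
    {σ : Sec P 1} {U : X.Opens} (hU : IsLocus σ U) (hUa : IsAffineOpen U) {m : ℕ} {G : X.Modules}
    (hG : FlatMod.IsFinLocFreeOfRank m G) (z : X) (hz : z ∈ U) :
    ∃ (W : X.affineOpens) (_ : z ∈ W.1) (_ : W.1 ≤ U) (p : Γ(P, W.1)) (hp : IsGen P W.1 p)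
      (_ : σ.c W.1 p hp = 1) (b : Fin m → Γ(G, W.1)) (_ : IsLocBasis (M := G) (U := W.1) b) (B : Fin m → ℕ)
      (ψ : ∀ i, (It P (B i)).obj G ⟶ Coh.structureModule X),
      ∀ i l, toO ((ψ i).app W.1 (ev G p (B i) (b l))) = if i = l then 1 else 0 := by
  classical
  obtain ⟨W₀, b₀, hzW₀, hb₀⟩ := Groth.Agent.Vancyc.H326.LocExact.exists_affine_basis hG z
  obtain ⟨V, hV, hzV, p₀, hp₀⟩ := exists_gen hP (W₀.1 ⊓ U) z ⟨hzW₀, hz⟩
  obtain ⟨f, hfV, hzf⟩ := hUa.exists_basicOpen_le (V := V) ⟨z, hzV⟩ hz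
  have hfU : X.basicOpen f ≤ U := X.basicOpen_le f
  let W : X.affineOpens := ⟨X.basicOpen f, hUa.basicOpen f⟩
  have hWW₀ : W.1 ≤ W₀.1 := hfV.trans (hV.trans inf_le_left)
  have hp₁ : IsGen P W.1 (res P hfV p₀) := hp₀.mono hfV
  obtain ⟨u, hu⟩ := isUnit_c hU hfU _ hp₁
  let p : Γ(P, W.1) := (↑u⁻¹ : Γ(X, W.1)) • res P hfV p₀
  have hp : IsGen P W.1 p := hp₁.smul u⁻¹.isUnit
  have hc : σ.c W.1 p hp = 1 := by
    have := σ.c_smul _ _ hp₁ (↑u⁻¹ : Γ(X, W.1)) u⁻¹.isUnit
    rw [pow_one, ← hu, Units.inv_mul] at this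
    exact this
  let b₁ : Fin m → Sga67.Sec.Sec G W.1 := fun i => Sga67.Sec.res G hWW₀ (b₀ i)
  have hb₁ : IsLocBasis b₁ := hb₀.restrict hWW₀
  have hGf := Groth.Agent.Vancyc.H326.ChiLam.isFinLocFree_of_rank hG
  have hGc : Coh.IsCoh G := Groth.Agent.PerfA.CohSerre.isCoh_of_isFinLocFree hGf
  have hO : Coh.IsQCoh (Coh.structureModule X) := Groth.Agent.PerfA.QCohSerre.isQCoh_unit X
  have hHom : Coh.IsQCoh (homSheaf G (Coh.structureModule X)) :=
    isQCoh_homSheaf hGc.1 hO fun V hV => by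
      have := finite_sections hGc hV
      have : IsNoetherianRing Γ(X, V) := IsLocallyNoetherian.component_noetherian ⟨V, hV⟩
      exact Module.finitePresentation_of_finite _ _
  -- the dual basis
  let g : Fin m → (Γ(G, W.1) →ₗ[Γ(X, W.1)] Γ(Coh.structureModule X, W.1)) := fun i => (hb₁.basis le_rfl).coord i
  have hg : ∀ i l, toO (g i (b₁ l)) = if i = l then 1 else 0 := by
    intro i l
    have h := hb₁.basis_apply le_rfl l
    rw [Sga67.Sec.res_self] at h
    change (hb₁.basis le_rfl).coord i (b₁ l) = _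
    rw [← h, Module.Basis.coord_apply, Module.Basis.repr_self, Finsupp.single_apply]
    exact if_congr eq_comm rfl rfl
  have h1 : ∀ i, ∃ (n : ℕ) (y : Γ(homSheaf G (Coh.structureModule X), U)), res _ hfU y =
      resO X hfU f ^ n • (affineEquiv hGc.1 W.2).symm (g i) := fun i =>
    exists_res_eq hHom hUa f rfl hfU _
  choose n y hy using h1
  have hTF : TF σ (Coh.structureModule X) := tf_structure hU ⟨z, hz⟩
  have h2 := fun i => exists_ext hP hU (y i) hGc hO hTF
  choose B ψ hψ using h2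
  obtain ⟨v, hv⟩ := isUnit_resO f
  refine ⟨W, hzf, hfU, p, hp, hc, fun l => (↑(v⁻¹ ^ n l) : Γ(X, W.1)) • b₁ l,
    isLocBasis_units_smul hb₁ fun l => v⁻¹ ^ n l, B, ψ, fun i l => ?_⟩
  have hWU : W.1 ≤ W.1 ⊓ U := le_inf le_rfl hfU
  have h3 := congrArg (res (Coh.structureModule X) hWU) (hψ i W.1 p hp ((↑(v⁻¹ ^ n l) : Γ(X, W.1)) • b₁ l))
  rw [res_res, res_self, hc] at h3
  have h4 : resO X (inf_le_left : W.1 ⊓ U ≤ W.1) (1 : Γ(X, W.1)) = 1 :=
    map_one (X.presheaf.map (homOfLE _).op).hom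
  rw [h4, one_pow, one_smul, ← comp_res' (y i) inf_le_right hWU, res_res, res_self] at h3
  have h5 : comp (y i) W.1 hfU = comp (res _ hfU (y i)) W.1 le_rfl := rfl
  rw [h5, hy i, Groth.Agent.CohqB.HomSheaf.comp_self_smul, comp_affineEquiv_symm] at h3
  rw [h3]
  have h6 : toO ((resO X hfU f ^ n i • g i) ((↑(v⁻¹ ^ n l) : Γ(X, W.1)) • b₁ l)) =
      resO X hfU f ^ n i * (↑(v⁻¹ ^ n l) * toO (g i (b₁ l))) := by
    have h7 := LinearMap.map_smul (g i) (↑(v⁻¹ ^ n l) : Γ(X, W.1)) (b₁ l)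
    exact congrArg (fun w => resO X hfU f ^ n i * toO w) h7
  rw [h6, hg, ← hv]
  split_ifs with hil
  · subst hil
    rw [mul_one, ← Units.val_pow_eq_pow_val, ← Units.val_mul, inv_pow, mul_inv_cancel, Units.val_one]
  · rw [mul_zero, mul_zero]

/-- `σ^d τ`. -/
noncomputable def mixS (σ τ : Sec P 1) (d : ℕ) : Sec P (d + 1) where
  c V p hp := σ.c V p hp ^ d * τ.c V p hp
  res_c V W h p hp := by rw [resO_mul, resO_pow, σ.res_c, τ.res_c]
  c_smul V p hp r hr := by
    rw [σ.c_smul V p hp r hr, τ.c_smul V p hp r hr, pow_one]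
    ring

theorem isLocBasis_ev {G : X.Modules} {W : X.Opens} {p : Γ(P, W)} (hp : IsGen P W p) {κ : Type*} [Fintype κ]
    {b : κ → Sga67.Sec.Sec G W} (hb : IsLocBasis b) (M : ℕ) :
    IsLocBasis (M := (It P M).obj G) (U := W) (fun l => ev G p M (b l)) := by
  intro V h
  have h1 : (comb (M := (It P M).obj G) (fun l => ev G p M (b l)) h :
      (κ → Γ(X, V)) → Sga67.Sec.Sec ((It P M).obj G) V) = ev G (res P h p) M ∘ comb b h := by
    funext a
    simp only [comb_apply, Function.comp_apply]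
    let evl : Γ(G, V) →ₗ[Γ(X, V)] Γ((It P M).obj G, V) :=
      { toFun := ev G (res P h p) M
        map_add' := ev_add G _ M
        map_smul' := ev_smul G _ M }
    refine Eq.trans ?_ (map_sum evl (fun i => (a i • Sga67.Sec.res G h (b i) : Γ(G, V))) Finset.univ).symm
    refine Finset.sum_congr rfl fun i _ => ?_
    refine Eq.trans ?_ (ev_smul G (res P h p) M (a i) (Sga67.Sec.res G h (b i))).symm
    exact congrArg (fun w : Γ((It P M).obj G, V) => a i • w) (res_ev G p M h (b i))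
  rw [h1]
  exact (ev_bijective G (hp.mono h) M).comp (hb V h)

theorem exists_family [IsIntegral X] [IsLocallyNoetherian X] [CompactSpace X] (hP : PicF.IsInvertible P)
    {J : Type} [Fintype J] (σ : J → Sec P 1) (U : J → X.Opens) (hU : ∀ j, IsLocus (σ j) (U j))
    (hUa : ∀ j, IsAffineOpen (U j)) (hcov : ∀ z : X, ∃ j, z ∈ U j) {m : ℕ} {G : X.Modules}
    (hG : FlatMod.IsFinLocFreeOfRank m G) :
    ∃ M₀ : ℕ, ∀ M, M₀ ≤ M → ∃ (L : Type) (_ : Fintype L) (t : L → ((It P M).obj G ⟶ Coh.structureModule X)),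
      ∀ z : X, ∃ (W : X.affineOpens) (_ : z ∈ W.1) (j : J) (_ : W.1 ≤ U j) (p : Γ(P, W.1)) (hp : IsGen P W.1 p)
        (_ : (σ j).c W.1 p hp = 1) (b : Fin m → Sga67.Sec.Sec ((It P M).obj G) W.1) (_ : IsLocBasis b)
        (s : Fin m → J → L), ∀ i q l,
          toO (Sga67.Sec.appS (t (s i q)) W.1 (b l)) = if i = l then (σ q).c W.1 p hp else 0 := by
  classical
  choose j hj using hcov
  choose W hzW hWU p hp hc b hb B ψ hψ using fun z => exists_local hP (hU (j z)) (hUa (j z)) hG z (hj z)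
  obtain ⟨T, hT⟩ := isCompact_univ.elim_finite_subcover (fun z : X => ((W z).1 : Set X)) (fun z => (W z).1.2)
    (fun z _ => Set.mem_iUnion.mpr ⟨z, hzW z⟩)
  refine ⟨T.sup fun z => Finset.univ.sup fun i => B z i + 1, fun M hM => ?_⟩
  have hB : ∀ z ∈ T, ∀ i, B z i + 1 ≤ M := fun z hz i =>
    ((Finset.le_sup (f := fun i => B z i + 1) (Finset.mem_univ i)).trans
      (Finset.le_sup (f := fun z => Finset.univ.sup fun i => B z i + 1) hz)).trans hM
  let e := T.equivFin
  let zz : Fin T.card → X := fun c => (e.symm c).1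
  have hzz : ∀ c, zz c ∈ T := fun c => (e.symm c).2
  have hd : ∀ c i, M = B (zz c) i + ((M - B (zz c) i - 1) + 1) := fun c i => by
    have := hB _ (hzz c) i
    omega
  refine ⟨Fin T.card × Fin m × J, inferInstance, fun x => deg P (hd x.1 x.2.1) G ≫
    kap P (B (zz x.1) x.2.1) ((M - B (zz x.1) x.2.1 - 1) + 1) G ≫
    (mixS (σ (j (zz x.1))) (σ x.2.2) (M - B (zz x.1) x.2.1 - 1)).hom hP _ ≫ ψ (zz x.1) x.2.1, fun z => ?_⟩
  obtain ⟨y, hy, hzy⟩ : ∃ y ∈ T, z ∈ (W y).1 := by simpa using hT (Set.mem_univ z)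
  have hy' : zz (e ⟨y, hy⟩) = y := by simp [zz]
  have hzc : z ∈ (W (zz (e ⟨y, hy⟩))).1 := by rw [hy']; exact hzy
  generalize e ⟨y, hy⟩ = c at hzc
  refine ⟨W (zz c), hzc, j (zz c), hWU _, p _, hp _, hc _, fun l => ev G (p (zz c)) M (b (zz c) l),
    isLocBasis_ev (hp _) (hb _) M, fun i q => (c, i, q), fun i q l => ?_⟩
  have h1 : (deg P (hd c i) G ≫ kap P (B (zz c) i) ((M - B (zz c) i - 1) + 1) G ≫
      (mixS (σ (j (zz c))) (σ q) (M - B (zz c) i - 1)).hom hP _ ≫ ψ (zz c) i).app (W (zz c)).1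
        (ev G (p (zz c)) M (b (zz c) l)) =
      (mixS (σ (j (zz c))) (σ q) (M - B (zz c) i - 1)).c (W (zz c)).1 (p (zz c)) (hp (zz c)) •
        (ψ (zz c) i).app (W (zz c)).1 (ev G (p (zz c)) (B (zz c) i) (b (zz c) l)) := by
    change (ψ (zz c) i).app _ ((Sec.hom _ hP _).app _ ((kap P _ _ G).app _ ((deg P (hd c i) G).app _
      (ev G (p (zz c)) M (b (zz c) l))))) = _
    rw [deg_ev, kap_ev, Sec.hom_ev _ hP _ (hp (zz c)), Scheme.Modules.Hom.app_smul]
  refine (congrArg toO h1).trans ?_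
  have h2 : (mixS (σ (j (zz c))) (σ q) (M - B (zz c) i - 1)).c (W (zz c)).1 (p (zz c)) (hp (zz c)) =
      (σ q).c (W (zz c)).1 (p (zz c)) (hp (zz c)) := by
    change (σ (j (zz c))).c _ _ _ ^ _ * (σ q).c _ _ _ = _
    rw [hc, one_pow, one_mul]
  rw [h2]
  change (σ q).c _ _ _ * toO ((ψ (zz c) i).app (W (zz c)).1 (ev G (p (zz c)) (B (zz c) i) (b (zz c) l))) = _
  rw [hψ]
  split_ifs
  · exact mul_one _
  · exact mul_zero _

end Groth.Agent.Vancyc.H175.DualExt
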