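import Groth.Agent.S0037
import Groth.Agent.Ega4B.RpushCompare
import Groth.Agent.CohqB.DevSupport

/-!
# Support of higher direct images

`support_rpush_subset`: for `h : Y ⟶ X` proper, `X` locally Noetherian and `F` coherent, the support of `R^q h_* F`, `q > 0`,
consists of points with infinite fibre.
-/

set_option autoImplicit false
universe u
open CategoryTheory CategoryTheory.Limits AlgebraicGeometry TopologicalSpace

namespace Groth.Agent.Vancyc.H175.FibSupp

variable {X Y : Scheme.{u}} (h : Y ⟶ X)

theorem not_mem_support_rpush [IsProper h] [IsLocallyNoetherian X] [HasInjectiveResolutions Y.Modules]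
    {F : Y.Modules} (hF : Coh.IsCoh F) (q : ℕ) (hq : 0 < q) (z : X) (hz : (h.base ⁻¹' {z}).Finite) :
    z ∉ CohB1.support ((Coh.Rpush h q).obj F) := by
  rw [CohqB.DevSupport.not_mem_support_iff_isZero]
  obtain ⟨e⟩ := Ega4B.RpushCompare.rpush_iso_rpushAb h F q
  have h0 := S0037.result h z hz F hF q hq
  refine h0.of_iso ?_
  exact (TopCat.Presheaf.stalkFunctor AddCommGrpCat.{u} z).mapIso
    ((sheafToPresheaf _ _).mapIso e)

theorem support_rpush_subset [IsProper h] [IsLocallyNoetherian X] [HasInjectiveResolutions Y.Modules]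
    {F : Y.Modules} (hF : Coh.IsCoh F) (q : ℕ) (hq : 0 < q) (T : Set X)
    (hT : ∀ z ∉ T, (h.base ⁻¹' {z}).Finite) :
    CohB1.support ((Coh.Rpush h q).obj F) ⊆ T := fun z hz => by
  by_contra hzT
  exact not_mem_support_rpush h hF q hq z (hT z hzT) hz

end Groth.Agent.Vancyc.H175.FibSupp
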