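import Groth.Agent.Vancyc.H175.TensAdd
import Groth.Agent.S0484
import Groth.Agent.S1524
import Groth.Agent.S1525
import Groth.Agent.S0927
import Groth.Agent.S0031
import Groth.Agent.S0036
import Groth.Agent.Ega4B.RpushCompare
import Groth.Agent.Krr.H482.PullLambda

/-!
# Euler characteristics of pull-backs of exterior powers

`exists_alt_pull`: for `h : Y ⟶ X` a morphism of proper `k`-schemes,
`Σ (-1)^i χ(Y, F ⊗ h^* L_i) = Σ_q (-1)^q Σ_i (-1)^i χ(X, R^q h_* F ⊗ L_i)`.
-/

set_option autoImplicit false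
universe u
open CategoryTheory CategoryTheory.Limits AlgebraicGeometry

namespace Groth.Agent.Vancyc.H175.Leray

open Groth.Agent.Fga.ChiBasic TensAdd

variable (k : Type u) [Field k]

theorem hasInjectiveResolutions (X : Scheme.{u}) : HasInjectiveResolutions X.Modules := by
  have : IsGrothendieckAbelian.{u} X.Modules :=
    Groth.Agent.S0484.result (Opens.grothendieckTopology X) X.ringCatSheaf
  have : EnoughInjectives X.Modules := inferInstance
  infer_instance

section Basic

variable (X : Scheme.{u}) [X.Over (Spec (CommRingCat.of k))]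
  [IsProper (X ↘ (Spec (CommRingCat.of k)))]

theorem isAdd_euler : IsAdd (Curv2.euler k X) := fun S hS h1 h2 h3 => S1524.result k X S hS h1 h2 h3

include k in
theorem isNoetherian : IsNoetherian X := by
  have : IsLocallyNoetherian X := LocallyOfFiniteType.isLocallyNoetherian (X ↘ Spec (CommRingCat.of k))
  have : CompactSpace X := (quasiCompact_iff_compactSpace (X ↘ (Spec (CommRingCat.of k)))).mp inferInstance
  exact {}

end Basic

variable {X Y : Scheme.{u}} [X.Over (Spec (CommRingCat.of k))] [Y.Over (Spec (CommRingCat.of k))]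
  [IsProper (X ↘ (Spec (CommRingCat.of k)))] [IsProper (Y ↘ (Spec (CommRingCat.of k)))]
  (h : Y ⟶ X) (hh : h ≫ (X ↘ (Spec (CommRingCat.of k))) = Y ↘ (Spec (CommRingCat.of k)))
  [HasInjectiveResolutions Y.Modules]

include hh in
omit [HasInjectiveResolutions Y.Modules] in
theorem isProper_of_over : IsProper h := by
  have hprop : IsProper (h ≫ (X ↘ (Spec (CommRingCat.of k)))) := by rw [hh]; infer_instance
  exact IsProper.of_comp h (X ↘ (Spec (CommRingCat.of k)))

include hh in
theorem isCoh_rpush {F : Y.Modules} (hF : Coh.IsCoh F) (q : ℕ) : Coh.IsCoh ((Coh.Rpush h q).obj F) := by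
  have := isProper_of_over k h hh
  have := isNoetherian k X
  exact S0036.result h F hF q

include hh in
/-- `χ(Y, F ⊗ h^* E) = Σ (-1)^q χ(X, R^q h_* F ⊗ E)`, with a bound for `q` independent of `E`. -/
theorem exists_euler_pull {F : Y.Modules} (hF : Coh.IsCoh F) :
    ∃ N : ℕ, ∀ E : X.Modules, FlatMod.IsFinLocFree E →
      Curv2.euler k Y (CohB1.tensorMod F ((Scheme.Modules.pullback h).obj E)) =
        ∑ q ∈ Finset.range (N + 1), (-1 : ℤ) ^ q *
          Curv2.euler k X (CohB1.tensorMod ((Coh.Rpush h q).obj F) E) := by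
  have := isProper_of_over k h hh
  have := isNoetherian k X
  obtain ⟨N, hN⟩ := S0031.result h
  refine ⟨N, fun E hE => ?_⟩
  have hE' : FlatMod.IsFinLocFree ((Scheme.Modules.pullback h).obj E) :=
    Groth.Agent.Krr.H482.PullLambda.isFinLocFree_pullback h hE
  have hc : Coh.IsCoh (CohB1.tensorMod F ((Scheme.Modules.pullback h).obj E)) := isCoh_tensor hF hE'
  rw [S1525.result k X Y h hh _ hc]
  have hiso : ∀ q : ℕ, Nonempty ((Coh.Rpush h q).obj
      (CohB1.tensorMod F ((Scheme.Modules.pullback h).obj E)) ≅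
        CohB1.tensorMod ((Coh.Rpush h q).obj F) E) := fun q => by
    obtain ⟨e⟩ := S0927.result h F E hE q
    exact ⟨(Coh.Rpush h q).mapIso (Ega2.Tens.swap _ _) ≪≫ e.symm ≪≫ Ega2.Tens.swap _ _⟩
  have hval : ∀ q : ℕ, Curv2.euler k X ((Coh.Rpush h q).obj
      (CohB1.tensorMod F ((Scheme.Modules.pullback h).obj E))) =
        Curv2.euler k X (CohB1.tensorMod ((Coh.Rpush h q).obj F) E) := fun q => by
    obtain ⟨e⟩ := hiso q
    exact chi_iso (isAdd_euler k X) e (isCoh_rpush k h hh hc q)
  rw [finsum_eq_sum_of_support_subset (s := Finset.range (N + 1))]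
  · exact Finset.sum_congr rfl fun q _ => by rw [hval]
  · intro q hq
    rw [Finset.coe_range, Set.mem_Iio]
    by_contra hlt
    apply hq
    have hz : IsZero ((Coh.Rpush h q).obj (CohB1.tensorMod F ((Scheme.Modules.pullback h).obj E))) :=
      (Ega4B.RpushCompare.isZero_rpush_iff h _ q).mpr (hN _ hc.1 q (by omega))
    change (-1 : ℤ) ^ q * Curv2.euler k X _ = 0
    rw [chi_isZero (isAdd_euler k X) hz, mul_zero]

include hh in
theorem exists_alt_pull {F : Y.Modules} (hF : Coh.IsCoh F) :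
    ∃ N : ℕ, ∀ (r : ℕ) (L : ℕ → X.Modules), (∀ i, FlatMod.IsFinLocFree (L i)) →
      alt (Curv2.euler k Y) r (fun i => (Scheme.Modules.pullback h).obj (L i)) F =
        ∑ q ∈ Finset.range (N + 1), (-1 : ℤ) ^ q * alt (Curv2.euler k X) r L ((Coh.Rpush h q).obj F) := by
  obtain ⟨N, hN⟩ := exists_euler_pull k h hh hF
  refine ⟨N, fun r L hL => ?_⟩
  simp only [alt, Finset.mul_sum]
  rw [Finset.sum_comm]
  refine Finset.sum_congr rfl fun i _ => ?_
  rw [hN (L i) (hL i), Finset.mul_sum]
  refine Finset.sum_congr rfl fun q _ => ?_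
  ring

include hh in
/-- If the higher direct images do not contribute, `Σ (-1)^i χ(Y, F ⊗ h^* L_i) = Σ (-1)^i χ(X, h_* F ⊗ L_i)`. -/
theorem alt_pull_of_zero {F : Y.Modules} (hF : Coh.IsCoh F) (r : ℕ) (L : ℕ → X.Modules)
    (hL : ∀ i, FlatMod.IsFinLocFree (L i))
    (h0 : ∀ q : ℕ, 0 < q → alt (Curv2.euler k X) r L ((Coh.Rpush h q).obj F) = 0) :
    alt (Curv2.euler k Y) r (fun i => (Scheme.Modules.pullback h).obj (L i)) F =
      alt (Curv2.euler k X) r L ((Coh.push h).obj F) := by
  obtain ⟨N, hN⟩ := exists_alt_pull k h hh hF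
  have e0 : alt (Curv2.euler k X) r L ((Coh.Rpush h 0).obj F) =
      alt (Curv2.euler k X) r L ((Coh.push h).obj F) :=
    chi_iso (isAdd_alt (isAdd_euler k X) r hL) ((Scheme.Modules.pushforward h).rightDerivedZeroIsoSelf.app F)
      (isCoh_rpush k h hh hF 0)
  rw [hN r L hL, ← e0]
  rw [Finset.sum_eq_single_of_mem 0 (Finset.mem_range.mpr (Nat.succ_pos N))]
  · rw [pow_zero, one_mul]
  · intro q _ hq
    rw [h0 q (Nat.pos_of_ne_zero hq), mul_zero]

end Groth.Agent.Vancyc.H175.Leray
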