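import Groth.Agent.Vancyc.H175.DualExt
import Groth.Agent.Vancyc.H175.TwistBook
import Groth.Agent.Sga2lef.H503.EndGame
import Groth.Agent.Sga2lef.H503.PnSec
import Groth.Agent.Sga2.ItPow
import Groth.Agent.Ega1.AmpFam
import Groth.Agent.Dix.IdealModCartier
import Groth.Agent.Grpsch.PicGrp
import Groth.Agent.VarietyB.ProjSpaceProper
import Groth.Agent.Vancyc.H293.SimpleOf

/-!
# Sections of twisted duals on closed subschemes of projective space
-/

set_option autoImplicit false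
universe u
open CategoryTheory CategoryTheory.Limits AlgebraicGeometry Opposite TopologicalSpace

namespace Groth.Agent.Vancyc.H175.SecData

open Groth.Agent.Fdesc.LocGen Groth.Agent.Sga2.EszSec Groth.Agent.Sga2.TwIt Groth.Agent.Sga2.NegSec
open Groth.Agent.Sga2lef.H503.EndGame Groth.Agent.Sga2lef.H503.HomExt Groth.Agent.Sga2lef.H503.PnSec
open Groth.Agent.VarietyB Groth.Agent.VarietyB.ProjGlue Groth.Agent.VarietyB.ProjStd Groth.Agent.VarietyB.Segre
open Groth.Agent.Ega2

section Gen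

variable {Z : Scheme.{u}} {N Q : Z.Modules}

theorem isLocus_ofSec1 (θ : CohB1.tensorMod N Q ≅ Coh.structureModule Z) (x : Coh.structureModule Z ⟶ N) :
    IsLocus (ofSec1 θ x) (CohB1.genLocus N x) := by
  intro V q hq
  have h := genLocus_inf_eq x (isGen_dual θ (p := q) hq) (sec_eq θ x (p := q) hq)
  rw [inf_comm]
  exact h

open Grpsch.PicGrp in
/-- Pullback preserves inverses. -/
theorem isInverseOf_pullback {X Y : Scheme.{u}} (f : Y ⟶ X) {L M : X.Modules} (h : ClSub.IsInverseOf L M) :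
    ClSub.IsInverseOf ((Scheme.Modules.pullback f).obj L) ((Scheme.Modules.pullback f).obj M) := by
  obtain ⟨hL, hM⟩ := Dix.IdealModCartier.isInvertible_of_isInverseOf h
  have h1 : mk L hL * mk M hM = 1 := by
    rw [mk_mul_mk, mk_eq_one_iff]
    exact h
  have h2 := congrArg (pull f) h1
  rw [map_mul, map_one, pull_mk, pull_mk, mk_mul_mk, mk_eq_one_iff] at h2
  exact h2

end Gen

attribute [local instance] MvPolynomial.gradedAlgebra

variable (k : Type u) [Field k] (r : ℕ) {Z : Scheme.{u}} (i : Z ⟶ CohB1.ProjSpace r k)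

/-- The standard open. -/
noncomputable abbrev D (j : Fin (r + 1)) : (CohB1.ProjSpace r k).Opens :=
  Proj.basicOpen (MvPolynomial.homogeneousSubmodule (Fin (r + 1)) k) (MvPolynomial.X j)

/-- The coordinate sections on `Z`. -/
noncomputable def x (q : Fin (r + 1)) :
    Coh.structureModule Z ⟶ (Scheme.Modules.pullback i).obj (Twist.twistProjSpace r k 1) :=
  pullHom i (xs k q)

theorem isInvertible_one : PicF.IsInvertible (Twist.twistProjSpace r k 1) := TwistBook.isInvertible_twist k r 1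

theorem genLocus_x (q : Fin (r + 1)) : CohB1.genLocus _ (x k r i q) = i ⁻¹ᵁ D k r q := by
  rw [x, Groth.Agent.Ega1.AmpFam.genLocus_pullHom i (isInvertible_one k r)]
  exact congrArg (fun U => i ⁻¹ᵁ U) (genLocus_xs k q)

theorem sec_x (j q : Fin (r + 1)) : sec (x k r i q) (i ⁻¹ᵁ D k r j) =
    (i.app (D k r j) (ratio (Fin (r + 1)) k j q) : Γ(Z, i ⁻¹ᵁ D k r j)) • sec (x k r i j) (i ⁻¹ᵁ D k r j) := by
  rw [x, x, sec_pullHom, sec_pullHom]
  have h := sec_xs_eq k j q
  refine (congrArg (pullSec i) h).trans ?_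
  exact pullSec_smul i _ _

theorem c_eq {Q : Z.Modules}
    (θ : CohB1.tensorMod ((Scheme.Modules.pullback i).obj (Twist.twistProjSpace r k 1)) Q ≅ Coh.structureModule Z)
    (j q : Fin (r + 1)) {W : Z.Opens} (hW : W ≤ i ⁻¹ᵁ D k r j) (p : Γ(Q, W))
    (hp : Groth.Agent.Ega4dA.GenSec.IsGen Q W p) (hc : (ofSec1 θ (x k r i j)).c W p hp = 1) :
    (ofSec1 θ (x k r i q)).c W p hp = ores hW (i.app (D k r j) (ratio (Fin (r + 1)) k j q)) := by
  change pair θ (sec (x k r i q) W) p = _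
  have hc' : pair θ (sec (x k r i j) W) p = 1 := hc
  rw [← res_sec _ hW, sec_x, res_smul, pair_smul, res_sec, hc', mul_one]

theorem germ_ores [IsIntegral Z] {U W : Z.Opens} (h : W ≤ U) [Nonempty W] [Nonempty U] (a : Γ(Z, U)) :
    (Z.germToFunctionField W).hom (ores h a) = (Z.germToFunctionField U).hom a :=
  TopCat.Presheaf.germ_res_apply Z.presheaf (homOfLE h) _ _ a

theorem gen [IsIntegral Z] [IsClosedImmersion i] {W : Z.Opens} [Nonempty W] (j : Fin (r + 1)) (hW : W ≤ i ⁻¹ᵁ D k r j)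
    (K : Subfield Z.functionField)
    (h1 : ∀ a : k, (Z.germToFunctionField W).hom (CoordData.baseHom (i ≫ CohB1.ProjSpace.toSpec r k) W a) ∈ K)
    (h2 : ∀ q, (Z.germToFunctionField W).hom (ores hW (i.app (D k r j) (ratio (Fin (r + 1)) k j q))) ∈ K) :
    K = ⊤ := by
  have hne : Nonempty (i ⁻¹ᵁ D k r j : Z.Opens) := ‹Nonempty W›.map fun w => ⟨w.1, hW w.2⟩
  have haff : IsAffineOpen (D k r j) := isAffineOpen_U (Fin (r + 1)) k j
  let H : MvPolynomial (Fin (r + 1)) k →+* Γ(Z, i ⁻¹ᵁ D k r j) :=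
    (pullbackData i (stdData (Fin (r + 1)) k)).hom (i ≫ CohB1.ProjSpace.toSpec r k) j
  have hH : Function.Surjective H := by
    have h3 : H = (i.app (D k r j)).hom.comp ((stdData (Fin (r + 1)) k).hom (CohB1.ProjSpace.toSpec r k) j) :=
      hom_pullbackData i (stdData (Fin (r + 1)) k) (CohB1.ProjSpace.toSpec r k) j
    rw [h3]
    exact (i.app_surjective (D k r j) haff).comp (hom_std_surjective (Fin (r + 1)) k j)
  have key : ∀ f : MvPolynomial (Fin (r + 1)) k, (Z.germToFunctionField (i ⁻¹ᵁ D k r j)).hom (H f) ∈ K := by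
    intro f
    induction f using MvPolynomial.induction_on with
    | C c =>
      have h3 := h1 c
      have h4 : CoordData.baseHom (i ≫ CohB1.ProjSpace.toSpec r k) W c =
          ores hW (CoordData.baseHom (i ≫ CohB1.ProjSpace.toSpec r k) (i ⁻¹ᵁ D k r j) c) :=
        congr($(CoordData.baseHom_map (i ≫ CohB1.ProjSpace.toSpec r k) hW) c).symm
      rw [h4, germ_ores] at h3
      have h5 : H (MvPolynomial.C c) = CoordData.baseHom (i ≫ CohB1.ProjSpace.toSpec r k) (i ⁻¹ᵁ D k r j) c :=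
        MvPolynomial.eval₂Hom_C _ _ _
      rw [h5]
      exact h3
    | add p q hp hq => rw [map_add, map_add]; exact add_mem hp hq
    | mul_X p q hp =>
      rw [map_mul, map_mul]
      refine mul_mem hp ?_
      have h3 := h2 q
      rw [germ_ores] at h3
      have h5 : H (MvPolynomial.X q) = i.app (D k r j) (ratio (Fin (r + 1)) k j q) :=
        CoordData.hom_X _ _ _ _
      rw [h5]
      exact h3
  have := functionField_isFractionRing_of_isAffineOpen (X := Z) (i ⁻¹ᵁ D k r j) (haff.preimage i)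
  rw [eq_top_iff]
  intro y _
  obtain ⟨a, b, _, rfl⟩ := IsFractionRing.div_surjective (A := Γ(Z, i ⁻¹ᵁ D k r j)) y
  obtain ⟨a, rfl⟩ := hH a
  obtain ⟨b, rfl⟩ := hH b
  exact K.div_mem (key a) (key b)

theorem isInverseOf_twist : ClSub.IsInverseOf (Twist.twistProjSpace r k 1) (Twist.twistProjSpace r k (-1)) := by
  have h0 : (1 : ℤ) + (-1) = 0 := by norm_num
  have h1 := TwistInv.isIso_mulHom (VeryAmpleAmple.coveredByOne_poly (n := r) (R := k)) h0
  obtain ⟨e⟩ := TwistInv.nonempty_unit_iso (CohB1.polyGrading r k)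
  exact ⟨@asIso _ _ _ _ (TwistMul.mulHom (CohB1.polyGrading r k) h0) h1 ≪≫ e.symm⟩

/-- **(S1)** -/
theorem exists_data [IsIntegral Z] [IsClosedImmersion i] {m : ℕ} {G : Z.Modules}
    (hG : FlatMod.IsFinLocFreeOfRank m G) :
    ∃ M₀ : ℕ, ∀ M : ℕ, M₀ ≤ M → ∃ (L : Type) (_ : Fintype L)
      (t : L → (CohB1.tensorMod G ((Scheme.Modules.pullback i).obj (Twist.twistProjSpace r k (-(M : ℤ)))) ⟶
        Coh.structureModule Z)),
      ∀ z : Z, Groth.Agent.Vancyc.H293.SimpleOf.HasData k (i ≫ CohB1.ProjSpace.toSpec r k) t m z := by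
  have hlf : LocallyOfFiniteType (i ≫ CohB1.ProjSpace.toSpec r k) := inferInstance
  have hno : IsLocallyNoetherian Z := LocallyOfFiniteType.isLocallyNoetherian (i ≫ CohB1.ProjSpace.toSpec r k)
  have hcp : CompactSpace Z := QuasiCompact.compactSpace_of_compactSpace (i ≫ CohB1.ProjSpace.toSpec r k)
  obtain ⟨θ⟩ := isInverseOf_pullback i (isInverseOf_twist k r)
  have hP : PicF.IsInvertible ((Scheme.Modules.pullback i).obj (Twist.twistProjSpace r k (-1))) :=
    (Dix.IdealModCartier.isInvertible_of_isInverseOf ⟨θ⟩).2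
  obtain ⟨M₀, hM₀⟩ := DualExt.exists_family hP (fun q => ofSec1 θ (x k r i q)) (fun j => i ⁻¹ᵁ D k r j)
    (fun j => by rw [← genLocus_x]; exact isLocus_ofSec1 θ (x k r i j))
    (fun j => (show IsAffineOpen (D k r j) from isAffineOpen_U (Fin (r + 1)) k j).preimage i)
    (fun z => by
      have h0 : (⨆ j, D k r j) = ⊤ := CoordData.iSup_basicOpen_X (Fin (r + 1)) k
      have h1 : i z ∈ ⨆ j, D k r j := by
        rw [h0]; trivial
      obtain ⟨j, hj⟩ := Opens.mem_iSup.1 h1
      exact ⟨j, hj⟩) hG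
  refine ⟨M₀, fun M hM => ?_⟩
  obtain ⟨L, hL, t, ht⟩ := hM₀ M hM
  obtain ⟨e1⟩ := Groth.Agent.Sga2.ItPow.nonempty_iso
    ((Scheme.Modules.pullback i).obj (Twist.twistProjSpace r k (-1))) G M
  obtain ⟨e2⟩ := TwistBook.nonempty_pull_twist k r i M
  let e := e1 ≪≫ Groth.Agent.Ega2.Tens.mapTIso (Iso.refl G) e2
  refine ⟨L, hL, fun l => e.inv ≫ t l, fun z => ?_⟩
  obtain ⟨W, hzW, j, hWj, p, hp, hc, b, hb, s, hs⟩ := ht z
  have hx : ∀ q, (ofSec1 θ (x k r i q)).c W.1 p hp = ores hWj (i.app (D k r j) (ratio (Fin (r + 1)) k j q)) :=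
    fun q => c_eq k r i θ j q hWj p hp hc
  have hval : ∀ i' q l, Groth.Agent.Sga67.LocBasis.toO (Groth.Agent.Sga67.Sec.appS (e.inv ≫ t (s i' q)) W.1
      (Groth.Agent.Sga67.Sec.appS e.hom W.1 (b l))) = if i' = l then (ofSec1 θ (x k r i q)).c W.1 p hp else 0 := by
    intro i' q l
    rw [← hs i' q l]
    congr 1
    rw [← Groth.Agent.Sga67.Sec.appS_comp, e.hom_inv_id_assoc]
  refine ⟨W, hzW, fun l => Groth.Agent.Sga67.Sec.appS e.hom W.1 (b l), hb.of_iso e, fun i' => s i' j, Fin (r + 1),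
    fun q => ores hWj (i.app (D k r j) (ratio (Fin (r + 1)) k j q)), fun i' l => ?_, fun q i' => ⟨s i' q, fun l => ?_⟩, ?_⟩
  · rw [hval, hc]
  · rw [hval, hx]
  · intro _ K h1 h2
    exact gen k r i j hWj K h1 h2

end Groth.Agent.Vancyc.H175.SecData
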