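import Groth.Agent.VarietyB.TensCoh
import Groth.Agent.Sga67.TensorOps
import Groth.Agent.Fga.ChiBasic
import Groth.Agent.Ega2.Tens

/-!
# Alternating sums `Σ (-1)^i χ(F ⊗ L_i)`

For `χ` additive on coherent modules and `L_i` finite locally free, `F ↦ Σ_{i ≤ r} (-1)^i χ(F ⊗ L_i)` is additive
on coherent modules.
-/

set_option autoImplicit false
universe u
open CategoryTheory CategoryTheory.Limits AlgebraicGeometry

namespace Groth.Agent.Vancyc.H175.TensAdd

open Groth.Agent.Fga.ChiBasic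

variable {X : Scheme.{u}}

theorem isCoh_tensor {F E : X.Modules} (hF : Coh.IsCoh F) (hE : FlatMod.IsFinLocFree E) :
    Coh.IsCoh (CohB1.tensorMod F E) :=
  Sga67.CohBasic.isCoh_of_iso (Ega2.Tens.swap E F)
    (VarietyB.TensCoh.isCoh_tensorMod (VarietyB.TensCoh.HasBases.of_isFinLocFree hE) hF)

/-- `F ↦ χ(F ⊗ E)` is additive on coherent modules for `E` finite locally free. -/
theorem isAdd_tensor {χ : X.Modules → ℤ} (hχ : IsAdd χ) {E : X.Modules} (hE : FlatMod.IsFinLocFree E) :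
    IsAdd (fun F => χ (CohB1.tensorMod F E)) := by
  intro S hS h1 h2 h3
  have hc : ∀ F : X.Modules, Coh.IsCoh F → Coh.IsCoh (CohB1.tensorMod E F) := fun F hF =>
    VarietyB.TensCoh.isCoh_tensorMod (VarietyB.TensCoh.HasBases.of_isFinLocFree hE) hF
  have key := hχ _ (Sga67.TensorOps.tensor_shortExact hE hS) (hc _ h1) (hc _ h2) (hc _ h3)
  have e : ∀ F : X.Modules, Coh.IsCoh F → χ (CohB1.tensorMod F E) = χ (CohB1.tensorMod E F) := fun F hF =>
    chi_iso hχ (Ega2.Tens.swap F E) (isCoh_tensor hF hE)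
  simp only [e _ h1, e _ h2, e _ h3]
  exact key

/-- `Σ_{i ≤ r} (-1)^i χ(F ⊗ L_i)`. -/
noncomputable def alt (χ : X.Modules → ℤ) (r : ℕ) (L : ℕ → X.Modules) (F : X.Modules) : ℤ :=
  ∑ i ∈ Finset.range (r + 1), (-1 : ℤ) ^ i * χ (CohB1.tensorMod F (L i))

theorem isAdd_alt {χ : X.Modules → ℤ} (hχ : IsAdd χ) (r : ℕ) {L : ℕ → X.Modules}
    (hL : ∀ i, FlatMod.IsFinLocFree (L i)) : IsAdd (alt χ r L) := by
  intro S hS h1 h2 h3
  simp only [alt]
  rw [← Finset.sum_add_distrib]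
  refine Finset.sum_congr rfl fun i _ => ?_
  rw [← mul_add]
  exact congrArg _ (isAdd_tensor hχ (hL i) S hS h1 h2 h3)

end Groth.Agent.Vancyc.H175.TensAdd
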