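import Groth.Agent.Vancyc.H175.Leray
import Groth.Agent.Vancyc.H175.AltLine
import Groth.Agent.Vancyc.H175.BirSec
import Groth.Agent.Vancyc.H175.DimBir
import Groth.Agent.Vancyc.H175.FibSupp
import Groth.Agent.Fga.IntegralSub
import Groth.Agent.Ega3B.Devissage
import Groth.Agent.CohqB.DevSimple
import Groth.Agent.CohqB.GenTriv
import Groth.Agent.Krr.H487.PullExt
import Groth.Agent.Krr.H482.PullLambda

/-!
# Vanishing of `Σ (-1)^i χ(F ⊗ Λ^i G)` for `dim Supp F < rank G`
-/

set_option autoImplicit false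
universe u
open CategoryTheory CategoryTheory.Limits AlgebraicGeometry TopologicalSpace

namespace Groth.Agent.Vancyc.H175.Van

open Groth.Agent.Fga.ChiBasic Groth.Agent.Fga TensAdd Leray AltLine Groth.Agent.Sga67.LocBasis
open Groth.Agent.Krr.H487.KerRank

variable (k : Type u) [Field k]

/-- The vanishing statement in dimension `< d`. -/
def Stmt (d : ℕ) : Prop :=
  ∀ (X : Scheme.{u}) [X.Over (Spec (CommRingCat.of k))] [IsProper (X ↘ Spec (CommRingCat.of k))]
    (r : ℕ), d ≤ r → ∀ (G : X.Modules), FlatMod.IsFinLocFreeOfRank r G → ∀ (L : ℕ → X.Modules),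
      (∀ i, ExtPow.IsExtPow i G (L i)) → ∀ F : X.Modules, Coh.IsCoh F →
        topologicalKrullDim (CohB1.support F) < (d : WithBot ℕ∞) → alt (Curv2.euler k X) r L F = 0

theorem stmt_zero : Stmt.{u} k 0 := by
  intro X _ _ r _ G hG L hL F _ hd
  have hemp : CohB1.support F = ∅ := by
    by_contra hne
    have : Nonempty (CohB1.support F) := (Set.nonempty_iff_ne_empty.mpr hne).to_subtype
    have h0 : (0 : WithBot ℕ∞) ≤ topologicalKrullDim (CohB1.support F) := by
      have : Nonempty (IrreducibleCloseds (CohB1.support F)) :=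
        ⟨⟨closure {Classical.arbitrary _}, isIrreducible_singleton.closure, isClosed_closure⟩⟩
      exact Order.krullDim_nonneg
    exact absurd hd (not_lt.mpr (by exact_mod_cast h0))
  exact chi_isZero (isAdd_alt (isAdd_euler k X) r fun i =>
    isFinLocFree_of_isExtPow (isFinLocFree_of_rank hG) (hL i))
    (CohqB.DevSupport.isZero_of_support_eq_empty hemp)

/-- Comparison of `h_* F` and `F` when the fibres are finite outside a set of small dimension. -/
theorem alt_push_of_small {d : ℕ} (ih : Stmt.{u} k d) {X Y : Scheme.{u}}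
    [X.Over (Spec (CommRingCat.of k))] [Y.Over (Spec (CommRingCat.of k))]
    [IsProper (X ↘ (Spec (CommRingCat.of k)))] [IsProper (Y ↘ (Spec (CommRingCat.of k)))]
    (h : Y ⟶ X) (hh : h ≫ (X ↘ (Spec (CommRingCat.of k))) = Y ↘ (Spec (CommRingCat.of k)))
    {r : ℕ} (hr : d ≤ r) {G : X.Modules} (hG : FlatMod.IsFinLocFreeOfRank r G) {L : ℕ → X.Modules}
    (hL : ∀ i, ExtPow.IsExtPow i G (L i)) {F : Y.Modules} (hF : Coh.IsCoh F) (T : Set X)
    (hT : ∀ z ∉ T, (h.base ⁻¹' {z}).Finite) (hTd : topologicalKrullDim T < (d : WithBot ℕ∞)) :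
    alt (Curv2.euler k Y) r (fun i => (Scheme.Modules.pullback h).obj (L i)) F =
      alt (Curv2.euler k X) r L ((Coh.push h).obj F) := by
  have := hasInjectiveResolutions Y
  have := isProper_of_over k h hh
  have := isNoetherian k X
  refine alt_pull_of_zero k h hh hF r L (fun i =>
    isFinLocFree_of_isExtPow (isFinLocFree_of_rank hG) (hL i)) fun q hq => ?_
  refine ih X r hr G hG L hL _ (isCoh_rpush k h hh hF q) (lt_of_le_of_lt ?_ hTd)
  exact DimLt.topologicalKrullDim_mono (FibSupp.support_rpush_subset h hF q hq T hT)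

/-- The sum for the structure sheaf when there is an invertible quotient. -/
theorem alt_unit_eq_zero {d : ℕ} (ih : Stmt.{u} k d) {W : Scheme.{u}} [IsIntegral W]
    [W.Over (Spec (CommRingCat.of k))] [IsProper (W ↘ (Spec (CommRingCat.of k)))]
    (hd : topologicalKrullDim (Set.univ : Set W) < ((d + 1 : ℕ) : WithBot ℕ∞)) {r : ℕ} (hr : d ≤ r)
    {E J : W.Modules} (hE : FlatMod.IsFinLocFreeOfRank (r + 1) E) (hJ : FlatMod.IsFinLocFreeOfRank 1 J)
    (q : E ⟶ J) [Epi q] {L : ℕ → W.Modules} (hL : ∀ i, ExtPow.IsExtPow i E (L i)) :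
    alt (Curv2.euler k W) (r + 1) L (Coh.structureModule W) = 0 := by
  have := isNoetherian k W
  have hH := isFinLocFreeOfRank_kernel q hE hJ
  have hχ := isAdd_euler k W
  choose L' _ hL' using fun i => Groth.Agent.Krr.H495.ExtExist.exists_isExtPow i _ (isFinLocFree_of_rank hH)
  have hA : IsAdd (alt (Curv2.euler k W) r L') := isAdd_alt hχ r fun i =>
    isFinLocFree_of_isExtPow (isFinLocFree_of_rank hH) (hL' i)
  rw [alt_eq_sub hχ hE hJ q hL hL']
  have hO : Coh.IsCoh (Coh.structureModule W) := isCoh_of_isFinLocFree Sga67.TensorOps.isFinLocFree_structureModule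
  have hJi : PicF.IsInvertible J := Ega2.QCohLocal.isFinLocFreeOfRank_one_iff.1 hJ
  obtain ⟨U, G', p, s, hxU, hG', hkp, hcp, hks, hcs, -⟩ :=
    Compare.exists_compare hO hJi (genericPoint W)
  have hOJ : Coh.IsCoh (CohB1.tensorMod (Coh.structureModule W) J) := TwistCoh.isCoh_tensor hO hJi
  have small : ∀ K : W.Modules, Coh.IsCoh K → (∀ z ∈ U, z ∉ CohB1.support K) →
      alt (Curv2.euler k W) r L' K = 0 := by
    intro K hK h1
    refine ih W r hr _ hH L' hL' K hK ?_
    refine lt_of_le_of_lt (DimLt.topologicalKrullDim_mono (B := (U : Set W)ᶜ)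
      fun z hz hzU => h1 z hzU hz) ?_
    refine DimLt.topologicalKrullDim_lt (IrreducibleSpace.isIrreducible_univ W) U.2.isClosed_compl
      (Set.subset_univ _) ?_ hd
    intro h
    have : genericPoint W ∈ U.carrierᶜ := by rw [h]; trivial
    exact this hxU
  have e1 := chi_map hA p hG' hO
  have e2 := chi_map hA s hG' hOJ
  rw [small _ (Sga67.CohBasic.isCoh_cokernel p hG'.1 hO) hcp,
    small _ (Sga67.CohBasic.isCoh_kernel p hG' hO.1) hkp, add_zero, add_zero] at e1
  rw [small _ (Sga67.CohBasic.isCoh_cokernel s hG'.1 hOJ) hcs,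
    small _ (Sga67.CohBasic.isCoh_kernel s hG' hOJ.1) hks, add_zero, add_zero] at e2
  have e3 : alt (Curv2.euler k W) r L' (CohB1.tensorMod (Coh.structureModule W) J) =
      alt (Curv2.euler k W) r L' J := chi_iso hA (Sga67.TensorOps.tensorUnit J) hOJ
  omega

theorem stmt_succ {d : ℕ} (ih : Stmt.{u} k d) : Stmt.{u} k (d + 1) := by
  intro X _ _ r hr G hG L hL F hF hd
  obtain ⟨r, rfl⟩ : ∃ s, r = s + 1 := ⟨r - 1, by omega⟩
  have hr' : d ≤ r := by omega
  have := isNoetherian k X
  have hLf : ∀ i, FlatMod.IsFinLocFree (L i) := fun i =>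
    isFinLocFree_of_isExtPow (isFinLocFree_of_rank hG) (hL i)
  have hA : IsAdd (alt (Curv2.euler k X) (r + 1) L) := isAdd_alt (isAdd_euler k X) _ hLf
  have hT : IsClosed (CohB1.support F) := Ega3B.Devissage.isClosed_support hF
  refine Ega3B.Devissage.devissage (CohB1.support F) hT
    (fun M => alt (Curv2.euler k X) (r + 1) L M = 0) (fun M hM => chi_isZero hA hM) ?_ ?_ F hF subset_rfl
  · intro S hS h1 h2 h3 _
    have key := hA S hS h1 h2 h3
    refine ⟨fun ha hb => ?_, fun ha hb => ?_, fun ha hb => ?_⟩ <;> omega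
  · intro y hy
    obtain ⟨Z, i, hi, hZ, hgen, hrange⟩ := IntegralSub.exists_integral_closed y
    have hcl : closure {y} ⊆ CohB1.support F := closure_minimal (Set.singleton_subset_iff.mpr hy) hT
    have hdim : topologicalKrullDim (closure {y} : Set X) < ((d + 1 : ℕ) : WithBot ℕ∞) :=
      lt_of_le_of_lt (DimLt.topologicalKrullDim_mono hcl) hd
    have hZn : IsLocallyNoetherian Z := LocallyOfFiniteType.isLocallyNoetherian i
    have hGZ := Krr.H482.PullLambda.isFinLocFreeOfRank_pullback i hG
    obtain ⟨W, g, U, J, q, hW, hg, hU, hiso, hJ, hq⟩ := BirSec.exists_modification hGZ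
    let oW : W.Over (Spec (CommRingCat.of k)) := ⟨(g ≫ i) ≫ (X ↘ (Spec (CommRingCat.of k)))⟩
    have hWp : IsProper (W ↘ (Spec (CommRingCat.of k))) :=
      inferInstanceAs (IsProper ((g ≫ i) ≫ (X ↘ (Spec (CommRingCat.of k)))))
    have hh : (g ≫ i) ≫ (X ↘ (Spec (CommRingCat.of k))) = W ↘ (Spec (CommRingCat.of k)) := rfl
    -- the small closed set
    let T : Set X := i '' (U : Set Z)ᶜ
    have hTc : IsClosed T := i.isClosedEmbedding.isClosedMap _ U.2.isClosed_compl
    have hTy : T ⊆ closure {y} := by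
      rw [← hrange]; exact Set.image_subset_range _ _
    have hyT : y ∉ T := by
      rintro ⟨z, hz, hzy⟩
      rw [← hgen] at hzy
      exact hz (i.isClosedEmbedding.injective hzy ▸ hU)
    have hTd : topologicalKrullDim T < (d : WithBot ℕ∞) := by
      refine DimLt.topologicalKrullDim_lt isIrreducible_singleton.closure hTc hTy ?_ hdim
      intro h
      exact hyT (h ▸ subset_closure rfl)
    have hfin : ∀ z ∉ T, ((g ≫ i).base ⁻¹' {z}).Finite := by
      intro z hz
      refine Set.Subsingleton.finite ?_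
      intro a ha b hb
      have ha' : i (g a) = z := ha
      have hb' : i (g b) = z := hb
      have hab : g a = g b := i.isClosedEmbedding.injective (ha'.trans hb'.symm)
      refine DimBir.injOn_of_isIso g U ?_ hab
      by_contra hga
      exact hz ⟨g a, hga, ha'⟩
    -- generic points
    have hgW : g (genericPoint W) = genericPoint Z := DimBir.map_genericPoint g U hU
    have hWd : topologicalKrullDim (Set.univ : Set W) < ((d + 1 : ℕ) : WithBot ℕ∞) := by
      have h1 : CycB.RelDim.rtd (g ≫ i) (genericPoint W) = 0 := by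
        rw [CycB.RelDim.rtd_comp, CycB.RelDim.rtd_eq_zero_of_isPreimmersion,
          DimBir.rtd_eq_zero_of_isIso g U (hgW ▸ hU), add_zero]
      have h2 := DimBir.dim_closure_eq k (X ↘ (Spec (CommRingCat.of k))) (g ≫ i) (genericPoint W) h1
      have h3 : (g ≫ i) (genericPoint W) = y := by
        rw [← hgen, ← hgW]; rfl
      rw [h3, genericPoint_closure] at h2
      rw [h2]
      exact hdim
    -- the sheaf
    have hO : Coh.IsCoh (Coh.structureModule W) := isCoh_of_isFinLocFree Sga67.TensorOps.isFinLocFree_structureModule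
    have hpush := alt_push_of_small k ih (g ≫ i) hh (by omega : d ≤ r + 1) hG hL hO T hfin hTd
    have hzero : alt (Curv2.euler k W) (r + 1)
        (fun i_1 => (Scheme.Modules.pullback (g ≫ i)).obj (L i_1)) (Coh.structureModule W) = 0 := by
      have hE : FlatMod.IsFinLocFreeOfRank (r + 1) ((Scheme.Modules.pullback (g ≫ i)).obj G) :=
        Krr.H482.PullLambda.isFinLocFreeOfRank_pullback (g ≫ i) hG
      have : Epi ((Scheme.Modules.pullbackComp g i).inv.app G ≫ q) := epi_comp _ _
      exact alt_unit_eq_zero k ih hWd hr' hE hJ ((Scheme.Modules.pullbackComp g i).inv.app G ≫ q)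
        (fun j => Groth.Agent.Krr.H487.PullExt.isExtPow_pullback (g ≫ i) (isFinLocFree_of_rank hG) (hL j))
    rw [hzero] at hpush
    have := hasInjectiveResolutions W
    have hpc : Coh.IsCoh ((Coh.push (g ≫ i)).obj (Coh.structureModule W)) :=
      Sga67.CohBasic.isCoh_of_iso
        ((Scheme.Modules.pushforward (g ≫ i)).rightDerivedZeroIsoSelf.app (Coh.structureModule W))
        (isCoh_rpush k (g ≫ i) hh hO 0)
    let e := CohqB.GenTriv.pushComp g i (Coh.structureModule W)
    have hNc : Coh.IsCoh ((Coh.push i).obj ((Coh.push g).obj (Coh.structureModule W))) :=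
      Sga67.CohBasic.isCoh_of_iso e.symm hpc
    refine ⟨(Coh.push i).obj ((Coh.push g).obj (Coh.structureModule W)), hNc, ?_, ?_, ?_⟩
    · rw [chi_iso hA e hNc]
      exact hpush.symm
    · exact (CohqB.DevSimple.support_push_subset_range i _).trans hrange.le
    · have : Nonempty U := ⟨⟨_, hU⟩⟩
      have h := CohqB.DevSimple.isSimpleModule_stalk_push i ((Coh.push g).obj (Coh.structureModule W)) U
        (CohqB.GenTriv.nonempty_iso_of_isGen _ (CohqB.GenTriv.isGen_one_push g U hiso))
      rw [hgen] at h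
      exact h

theorem stmt (d : ℕ) : Stmt.{u} k d := by
  induction d with
  | zero => exact stmt_zero k
  | succ d ih => exact stmt_succ k ih

end Groth.Agent.Vancyc.H175.Van
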